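import Cfsg.Agent.Lib.U62Three.Rank2.Defs
import Mathlib.GroupTheory.Transfer
import Mathlib.Tactic.Group

/-! First facts on a Sylow subgroup of order nine, and the case where its normaliser centralises it. -/

set_option autoImplicit false

namespace Cfsg.Agent.U62Three.Rank2

open Subgroup

variable {X : Type*} [Group X]

/-- Products of powers of two commuting elements. -/
theorem pair_form {a b x : X} (hab : Commute a b) (hx : x ∈ zpowers a ⊔ zpowers b) :
    ∃ i j : ℤ, x = a ^ i * b ^ j := by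
  let S : Subgroup X :=
    { carrier := {y | ∃ i j : ℤ, y = a ^ i * b ^ j}
      one_mem' := ⟨0, 0, by simp⟩
      mul_mem' := by
        rintro _ _ ⟨i, j, rfl⟩ ⟨i', j', rfl⟩
        refine ⟨i + i', j + j', ?_⟩
        rw [zpow_add, zpow_add, mul_assoc, ← mul_assoc (b ^ j), ← ((hab.zpow_zpow i' j).eq), mul_assoc, mul_assoc]
      inv_mem' := by
        rintro _ ⟨i, j, rfl⟩
        refine ⟨-i, -j, ?_⟩
        rw [mul_inv_rev, ← zpow_neg, ← zpow_neg, ((hab.zpow_zpow (-i) (-j)).eq)] }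
  exact (sup_le (zpowers_le.2 (show a ∈ S from ⟨1, 0, by simp⟩))
    (zpowers_le.2 (show b ∈ S from ⟨0, 1, by simp⟩)) : zpowers a ⊔ zpowers b ≤ S) hx

/-- Two endomorphisms agreeing on generators agree. -/
theorem conj_eq_of_gen {T : Subgroup X} {h0 h1 g k : X} (gen : zpowers h0 ⊔ zpowers h1 = T)
    (e0 : g * h0 * g⁻¹ = k * h0 * k⁻¹) (e1 : g * h1 * g⁻¹ = k * h1 * k⁻¹) :
    ∀ x ∈ T, g * x * g⁻¹ = k * x * k⁻¹ := by
  intro x hx
  have hle : zpowers h0 ⊔ zpowers h1 ≤ MonoidHom.eqLocus (MulAut.conj g).toMonoidHom (MulAut.conj k).toMonoidHom :=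
    sup_le (zpowers_le.2 e0) (zpowers_le.2 e1)
  exact hle (gen ▸ hx)

section

variable {T : Subgroup X} (hT : Nine T)
include hT

theorem Nine.le_centralizer {a : X} (ha : a ∈ T) : T ≤ centralizer ({a} : Set X) := fun b hb =>
  mem_centralizer_singleton_iff.2 (hT.comm b hb a ha)

theorem Nine.order {a : X} (ha : a ∈ T) (h1 : a ≠ 1) : orderOf a = 3 := by
  haveI : Fact (Nat.Prime 3) := ⟨Nat.prime_three⟩
  exact orderOf_eq_prime (hT.exp a ha) h1

variable [Finite X]

/-- The normaliser controls the fusion. -/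
theorem Nine.fusion {a b : X} (ha : a ∈ T) (hb : b ∈ T) (hab : IsConj a b) :
    ∃ n ∈ normalizer (T : Set X), n * a * n⁻¹ = b := by
  haveI : Fact (Nat.Prime 3) := ⟨Nat.prime_three⟩
  obtain ⟨P, rfl⟩ := hT.sylow
  haveI : IsMulCommutative (P : Subgroup X) := .of_setLike_mul_comm fun x hx y hy => hT.comm x hx y hy
  obtain ⟨c, hc⟩ := isConj_iff.1 hab
  obtain ⟨n, hn, e⟩ := P.conj_eq_normalizer_conj_of_mem a c⁻¹ ha (by rw [inv_inv, hc]; exact hb)
  rw [inv_inv, hc] at e
  exact ⟨n⁻¹, inv_mem hn, by rw [inv_inv]; exact e.symm⟩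

theorem Nine.not_dvd_index : ¬ 3 ∣ T.index := by
  haveI : Fact (Nat.Prime 3) := ⟨Nat.prime_three⟩
  obtain ⟨P, hP⟩ := hT.sylow
  exact hP ▸ P.not_dvd_index

/-- **(A)** The normaliser centralises. -/
theorem split_central (hA : normalizer (T : Set X) ≤ centralizer (T : Set X)) : Splits T := by
  haveI : Fact (Nat.Prime 3) := ⟨Nat.prime_three⟩
  obtain ⟨P, rfl⟩ := hT.sylow
  have hc : (MonoidHom.transferSylow P hA).ker.IsComplement' (P : Subgroup X) :=
    MonoidHom.ker_transferSylow_isComplement' P hA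
  refine ⟨(MonoidHom.transferSylow P hA).ker, MonoidHom.normal_ker _, ?_, fun x => ?_⟩
  · rw [← hc.index_eq_card]
    exact ((Nat.prime_three.coprime_iff_not_dvd).2 P.not_dvd_index).symm
  · obtain ⟨⟨⟨o, ho⟩, ⟨t, ht⟩⟩, he⟩ := (hc : Function.Bijective _).2 x
    exact ⟨o, ho, t, Subgroup.le_normalizer ht, he.symm⟩

end

end Cfsg.Agent.U62Three.Rank2
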