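import Mathlib.GroupTheory.Sylow

/-! The shapes used for groups with a Sylow subgroup of order nine. -/

set_option autoImplicit false

namespace Cfsg.Agent.U62Three.Rank2

open Subgroup

variable {X : Type*} [Group X]

/-- An elementary abelian Sylow subgroup of order nine. -/
structure Nine (T : Subgroup X) : Prop where
  card : Nat.card T = 9
  comm : ∀ a ∈ T, ∀ b ∈ T, a * b = b * a
  exp : ∀ a ∈ T, a ^ 3 = 1
  sylow : ∃ P : Sylow 3 X, (P : Subgroup X) = T

/-- A normal subgroup of order prime to three together with the normaliser gives everything. -/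
def Splits (T : Subgroup X) : Prop :=
  ∃ O : Subgroup X, O.Normal ∧ (Nat.card O).Coprime 3 ∧
    ∀ x, ∃ o ∈ O, ∃ n ∈ normalizer (T : Set X), x = o * n

/-- The centraliser of `h` is a normal subgroup `R` of order prime to three times its part in the normaliser. -/
structure Cored (T : Subgroup X) (h : X) (R : Subgroup X) : Prop where
  le : R ≤ centralizer {h}
  normal : ∀ c ∈ centralizer ({h} : Set X), ∀ r ∈ R, c * r * c⁻¹ ∈ R
  cop : (Nat.card R).Coprime 3
  dec : ∀ c ∈ centralizer ({h} : Set X), ∃ r ∈ R, ∃ n ∈ normalizer (T : Set X), c = r * n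

end Cfsg.Agent.U62Three.Rank2
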