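import Cfsg.Agent.Lib.U62Three.Rank2.Basic
import Cfsg.Agent.Lib.Co2Three.W.GridLoc

/-! A Sylow subgroup of order nine whose normaliser induces two commuting reflections. -/

set_option autoImplicit false
set_option maxRecDepth 20000
set_option linter.style.haveILetI false
set_option linter.unusedSectionVars false

namespace Cfsg.Agent.U62Three.Rank2

open Subgroup
open Cfsg.Agent.ThreeTI.Grid (Mod rep)
open Cfsg.Agent.GridBlock (cubes mem_cubes)

universe u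

variable {X : Type u} [Group X] [Finite X]

theorem cube_pair : ∀ h : Mod, h * h * h = 1 → ∃ i j : ZMod 3, h = (DihedralGroup.r i, DihedralGroup.r j) := by
  decide +kernel

theorem cube_gens : ((DihedralGroup.r 1, DihedralGroup.r 0) : Mod) ∈ cubes ∧
    ((DihedralGroup.r 0, DihedralGroup.r 1) : Mod) ∈ cubes := by
  constructor <;> rw [mem_cubes] <;> decide +kernel

theorem pow_cube_one {a : X} (ha : a ^ 3 = 1) (h1 : a ≠ 1) {i : ZMod 3} (hi : a ^ i.val = 1) : i = 0 := by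
  haveI : Fact (Nat.Prime 3) := ⟨Nat.prime_three⟩
  have hd : orderOf a ∣ i.val := orderOf_dvd_of_pow_eq_one hi
  rw [orderOf_eq_prime ha h1] at hd
  have := Nat.eq_zero_of_dvd_of_lt hd i.val_lt
  exact (ZMod.val_eq_zero i).1 this

section

variable {T : Subgroup X} (hT : Nine T)
include hT

/-- An involution with the action of a given element. -/
theorem exists_invol {s : X} (hs : s ∈ normalizer (T : Set X))
    (hsq : ∀ x ∈ T, s * s * x * (s * s)⁻¹ = x) (self : centralizer (T : Set X) ≤ T) :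
    s ^ 3 * s ^ 3 = 1 ∧ ∀ x ∈ T, s ^ 3 * x * (s ^ 3)⁻¹ = s * x * s⁻¹ := by
  have h2 : s * s ∈ T := self (mem_centralizer_iff.2 fun x hx => (mul_inv_eq_iff_eq_mul.1 (hsq x hx)).symm)
  have h6 : (s * s) ^ 3 = 1 := hT.exp _ h2
  refine ⟨by rw [← pow_add, show 3 + 3 = 2 * 3 by norm_num, pow_mul, pow_two, h6], fun x hx => ?_⟩
  have hsx : s * x * s⁻¹ ∈ T := (mem_normalizer_iff.1 hs x).1 hx
  calc s ^ 3 * x * (s ^ 3)⁻¹ = (s * s) * (s * x * s⁻¹) * (s * s)⁻¹ := by rw [pow_three]; group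
    _ = s * x * s⁻¹ := hsq _ hsx

/-- **(C)** Two commuting reflections and cores of exponent two. -/
theorem split_grid {h0 h1 s0 s1 : X} (m0 : h0 ∈ T) (m1 : h1 ∈ T) (gen : zpowers h0 ⊔ zpowers h1 = T)
    (a00 : s0 * h0 * s0⁻¹ = h0⁻¹) (a01 : s0 * h1 * s0⁻¹ = h1)
    (a10 : s1 * h0 * s1⁻¹ = h0) (a11 : s1 * h1 * s1⁻¹ = h1⁻¹)
    (act : ∀ n ∈ normalizer (T : Set X), ∃ a ∈ ({1, s0, s1, s0 * s1} : Set X), ∀ x ∈ T, n * x * n⁻¹ = a * x * a⁻¹)
    (self : centralizer (T : Set X) ≤ T)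
    (cores : ∀ h ∈ T, h ≠ 1 → ∃ R, Cored T h R ∧ ∀ r ∈ R, r * r = 1) : Splits T := by
  classical
  haveI : Fact (Nat.Prime 3) := ⟨Nat.prime_three⟩
  have hcomm : Commute h0 h1 := hT.comm _ m0 _ m1
  have hnot : ∀ a b : X, a ∈ T → b ∈ T → zpowers a ⊔ zpowers b = T → a ≠ 1 := fun a b _ hb hg e0 => by
    have hle : T ≤ zpowers b := hg ▸ sup_le (zpowers_le.2 (e0 ▸ one_mem _)) le_rfl
    have h9 := Subgroup.card_dvd_of_le hle
    rw [hT.card, Nat.card_zpowers] at h9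
    have h3 := orderOf_dvd_of_pow_eq_one (hT.exp b hb)
    have := Nat.le_of_dvd (by norm_num) (h9.trans h3)
    omega
  have h0ne : h0 ≠ 1 := hnot h0 h1 m0 m1 gen
  have h1ne : h1 ≠ 1 := hnot h1 h0 m1 m0 (by rw [sup_comm]; exact gen)
  have hinj2 : ∀ i j : ZMod 3, h0 ^ i.val * h1 ^ j.val = 1 → i = 0 ∧ j = 0 := by
    intro i j hij
    have e2 : s0 * (h0 ^ i.val * h1 ^ j.val) * s0⁻¹ = 1 := by rw [hij]; group
    rw [show s0 * (h0 ^ i.val * h1 ^ j.val) * s0⁻¹ = (s0 * h0 ^ i.val * s0⁻¹) * (s0 * h1 ^ j.val * s0⁻¹) by group,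
      ← conj_pow, ← conj_pow, a00, a01, inv_pow, inv_mul_eq_one] at e2
    rw [← e2] at hij
    have h4 : (h0 ^ i.val) ^ 3 = 1 := by rw [← pow_mul, mul_comm, pow_mul, hT.exp h0 m0, one_pow]
    have hi1 : h0 ^ i.val = 1 := by
      rw [pow_succ, pow_two, hij, one_mul] at h4
      exact h4
    rw [hi1] at e2
    exact ⟨pow_cube_one (hT.exp h0 m0) h0ne hi1, pow_cube_one (hT.exp h1 m1) h1ne e2.symm⟩
  have hnorm : ∀ s : X, (s * h0 * s⁻¹ ∈ T) → (s * h1 * s⁻¹ ∈ T) → s ∈ normalizer (T : Set X) := by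
    intro s e0 e1
    refine mem_normalizer_fintype fun x hx => ?_
    have hle : zpowers h0 ⊔ zpowers h1 ≤ T.comap (MulAut.conj s).toMonoidHom :=
      sup_le (zpowers_le.2 e0) (zpowers_le.2 e1)
    exact hle (gen ▸ hx)
  have ns0 : s0 ∈ normalizer (T : Set X) := hnorm s0 (by rw [a00]; exact inv_mem m0) (by rw [a01]; exact m1)
  have ns1 : s1 ∈ normalizer (T : Set X) := hnorm s1 (by rw [a10]; exact m0) (by rw [a11]; exact inv_mem m1)
  have hsq : ∀ s : X, (s * h0 * s⁻¹ = h0 ∨ s * h0 * s⁻¹ = h0⁻¹) → (s * h1 * s⁻¹ = h1 ∨ s * h1 * s⁻¹ = h1⁻¹) →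
      ∀ x ∈ T, s * s * x * (s * s)⁻¹ = x := by
    intro s e0 e1 x hx
    have key : ∀ h : X, (s * h * s⁻¹ = h ∨ s * h * s⁻¹ = h⁻¹) → s * s * h * (s * s)⁻¹ = 1 * h * 1⁻¹ := by
      intro h e
      rw [show s * s * h * (s * s)⁻¹ = s * (s * h * s⁻¹) * s⁻¹ by group]
      rcases e with e | e
      · rw [e, e]; group
      · rw [e, show s * h⁻¹ * s⁻¹ = (s * h * s⁻¹)⁻¹ by group, e]; group
    simpa using conj_eq_of_gen gen (key h0 e0) (key h1 e1) x hx
  obtain ⟨q0, c0⟩ := exists_invol hT ns0 (hsq s0 (Or.inr a00) (Or.inl a01)) self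
  obtain ⟨q1, c1⟩ := exists_invol hT ns1 (hsq s1 (Or.inl a10) (Or.inr a11)) self
  set u0 := s0 ^ 3 with hu0
  set u1 := s1 ^ 3 with hu1
  have b00 : u0 * h0 * u0⁻¹ = h0⁻¹ := (c0 h0 m0).trans a00
  have b01 : u0 * h1 * u0⁻¹ = h1 := (c0 h1 m1).trans a01
  have b10 : u1 * h0 * u1⁻¹ = h0 := (c1 h0 m0).trans a10
  have b11 : u1 * h1 * u1⁻¹ = h1⁻¹ := (c1 h1 m1).trans a11
  have hw : (u0 * u1) * h0 * (u0 * u1)⁻¹ = h0⁻¹ ∧ (u0 * u1) * h1 * (u0 * u1)⁻¹ = h1⁻¹ := by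
    constructor
    · rw [show u0 * u1 * h0 * (u0 * u1)⁻¹ = u0 * (u1 * h0 * u1⁻¹) * u0⁻¹ by group, b10, b00]
    · rw [show u0 * u1 * h1 * (u0 * u1)⁻¹ = u0 * (u1 * h1 * u1⁻¹) * u0⁻¹ by group, b11,
        show u0 * h1⁻¹ * u0⁻¹ = (u0 * h1 * u0⁻¹)⁻¹ by group, b01]
  have hww : u0 * u1 * (u0 * u1) ∈ T := self (mem_centralizer_iff.2 fun x hx =>
    (mul_inv_eq_iff_eq_mul.1 (hsq (u0 * u1) (Or.inr hw.1) (Or.inr hw.2) x hx)).symm)
  have huc : u0 * u1 = u1 * u0 := by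
    obtain ⟨i, j, hij⟩ := pair_form hcomm (gen ▸ hww)
    have hfix : (u0 * u1) * (u0 * u1 * (u0 * u1)) * (u0 * u1)⁻¹ = u0 * u1 * (u0 * u1) := by group
    have hinv : (u0 * u1) * (h0 ^ i * h1 ^ j) * (u0 * u1)⁻¹ = (h0 ^ i * h1 ^ j)⁻¹ := by
      rw [show (u0 * u1) * (h0 ^ i * h1 ^ j) * (u0 * u1)⁻¹
          = ((u0 * u1) * h0 ^ i * (u0 * u1)⁻¹) * ((u0 * u1) * h1 ^ j * (u0 * u1)⁻¹) by group,
        ← conj_zpow, ← conj_zpow, hw.1, hw.2, mul_inv_rev, inv_zpow, inv_zpow,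
        (hcomm.zpow_zpow i j).inv_inv.eq]
    rw [← hij] at hinv
    have h2 : (u0 * u1 * (u0 * u1)) * (u0 * u1 * (u0 * u1)) = 1 := by
      rw [hfix] at hinv
      exact mul_eq_one_iff_eq_inv.2 hinv
    have h3 := hT.exp _ hww
    rw [pow_succ, pow_two, h2, one_mul] at h3
    have e0 : u0⁻¹ = u0 := inv_eq_of_mul_eq_one_right q0
    have e1 : u1⁻¹ = u1 := inv_eq_of_mul_eq_one_right q1
    calc u0 * u1 = (u0 * u1)⁻¹ := (inv_eq_of_mul_eq_one_right h3).symm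
      _ = u1 * u0 := by rw [mul_inv_rev, e0, e1]
  let f0 := Co2Three.dlift h0 u0 (hT.exp h0 m0) q0 b00
  let f1 := Co2Three.dlift h1 u1 (hT.exp h1 m1) q1 b11
  have hc : ∀ x y, Commute (f0 x) (f1 y) := by
    have c01' : Commute u0 h1 := mul_inv_eq_iff_eq_mul.1 b01
    have c10' : Commute h0 u1 := (show Commute u1 h0 from mul_inv_eq_iff_eq_mul.1 b10).symm
    rintro (i | i) (j | j)
    · exact hcomm.pow_pow _ _
    · exact (c10'.pow_left _).mul_right (hcomm.pow_pow _ _)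
    · exact (c01'.pow_right _).mul_left (hcomm.pow_pow _ _)
    · exact ((show Commute u0 u1 from huc).mul_right (c01'.pow_right _)).mul_left
        ((c10'.pow_left _).mul_right (hcomm.pow_pow _ _))
  let ι : Mod →* X := f0.noncommCoprod f1 hc
  have hι : ∀ i j : ZMod 3, ι (DihedralGroup.r i, DihedralGroup.r j) = h0 ^ i.val * h1 ^ j.val := fun _ _ => rfl
  have hact0 : ∀ (x : DihedralGroup 3) (y : DihedralGroup 3), ι (x, y) * h0 * (ι (x, y))⁻¹ =
      match x with | .r _ => h0 | .sr _ => h0⁻¹ := by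
    rintro (i | i) (j | j)
    · show h0 ^ i.val * h1 ^ j.val * h0 * (h0 ^ i.val * h1 ^ j.val)⁻¹ = h0
      rw [(((Commute.refl h0).pow_left _).mul_left (hcomm.symm.pow_left _)).eq, mul_inv_cancel_right]
    · show h0 ^ i.val * (u1 * h1 ^ j.val) * h0 * (h0 ^ i.val * (u1 * h1 ^ j.val))⁻¹ = h0
      rw [(((Commute.refl h0).pow_left _).mul_left
        ((show Commute u1 h0 from mul_inv_eq_iff_eq_mul.1 b10).mul_left (hcomm.symm.pow_left _))).eq,
        mul_inv_cancel_right]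
    · show u0 * h0 ^ i.val * h1 ^ j.val * h0 * (u0 * h0 ^ i.val * h1 ^ j.val)⁻¹ = h0⁻¹
      rw [mul_assoc u0, mul_assoc u0, (((Commute.refl h0).pow_left i.val).mul_left (hcomm.symm.pow_left j.val)).eq]
      rw [← b00]; group
    · show u0 * h0 ^ i.val * (u1 * h1 ^ j.val) * h0 * (u0 * h0 ^ i.val * (u1 * h1 ^ j.val))⁻¹ = h0⁻¹
      rw [mul_assoc u0, mul_assoc u0, (((Commute.refl h0).pow_left i.val).mul_left
        ((show Commute u1 h0 from mul_inv_eq_iff_eq_mul.1 b10).mul_left (hcomm.symm.pow_left j.val))).eq]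
      rw [← b00]; group
  have hinj : Function.Injective ι := by
    refine (MonoidHom.ker_eq_bot_iff _).1 (eq_bot_iff.2 fun ⟨x, y⟩ hxy => ?_)
    rw [Subgroup.mem_bot]
    rw [MonoidHom.mem_ker] at hxy
    have hne : h0⁻¹ ≠ h0 := fun e => h0ne (by
      have h3 := hT.exp h0 m0
      rw [pow_succ, pow_two, show h0 * h0 = 1 by rw [← inv_eq_iff_mul_eq_one]; exact e, one_mul] at h3
      exact h3)
    have e1 := hact0 x y
    rw [hxy, one_mul, inv_one, mul_one] at e1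
    rcases x with i | i
    · rcases y with j | j
      · rw [hι] at hxy
        obtain ⟨rfl, rfl⟩ := hinj2 i j hxy
        rfl
      · exfalso
        have e2 : h1 = h1⁻¹ := by
          calc h1 = (h0 ^ i.val * (u1 * h1 ^ j.val)) * h1 * (h0 ^ i.val * (u1 * h1 ^ j.val))⁻¹ := by
                rw [show h0 ^ i.val * (u1 * h1 ^ j.val) = 1 from hxy]; group
            _ = h0 ^ i.val * (u1 * h1 * u1⁻¹) * (h0 ^ i.val)⁻¹ := by group
            _ = h1⁻¹ := by rw [b11, (hcomm.inv_right.pow_left i.val).eq, mul_inv_cancel_right]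
        have h3 := hT.exp h1 m1
        rw [pow_succ, pow_two, show h1 * h1 = 1 by rw [← inv_eq_iff_mul_eq_one]; exact e2.symm, one_mul] at h3
        exact h1ne h3
    · exact absurd e1.symm hne
  have hTmap : T = cubes.map ι := by
    refine le_antisymm (fun x hx => ?_) ?_
    · have hle : zpowers h0 ⊔ zpowers h1 ≤ cubes.map ι := sup_le
        (zpowers_le.2 ⟨(DihedralGroup.r 1, DihedralGroup.r 0), cube_gens.1, by
          rw [hι, ZMod.val_zero, pow_zero, mul_one, show (1 : ZMod 3).val = 1 from rfl, pow_one]⟩)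
        (zpowers_le.2 ⟨(DihedralGroup.r 0, DihedralGroup.r 1), cube_gens.2, by
          rw [hι, ZMod.val_zero, pow_zero, one_mul, show (1 : ZMod 3).val = 1 from rfl, pow_one]⟩)
      exact hle (gen ▸ hx)
    · rintro _ ⟨h, hh, rfl⟩
      obtain ⟨i, j, rfl⟩ := cube_pair h hh
      rw [hι]; exact mul_mem (pow_mem m0 _) (pow_mem m1 _)
  have hrange : ι.range ≤ normalizer (T : Set X) := by
    rintro _ ⟨k, rfl⟩
    refine mem_normalizer_fintype fun z hz => ?_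
    rw [hTmap] at hz ⊢
    obtain ⟨h, hh, rfl⟩ := hz
    refine ⟨k * h * k⁻¹, ?_, by simp⟩
    show k * h * k⁻¹ * (k * h * k⁻¹) * (k * h * k⁻¹) = 1
    rw [show k * h * k⁻¹ * (k * h * k⁻¹) * (k * h * k⁻¹) = k * (h * h * h) * k⁻¹ by group, mem_cubes.1 hh]
    group
  have hNr : normalizer (T : Set X) ≤ ι.range := by
    intro n hn
    obtain ⟨a, ha, he⟩ := act n hn
    obtain ⟨k, hk⟩ : ∃ k : Mod, ∀ x ∈ T, ι k * x * (ι k)⁻¹ = a * x * a⁻¹ := by
      rcases ha with rfl | rfl | rfl | rfl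
      · exact ⟨1, fun x _ => by simp⟩
      · exact ⟨(DihedralGroup.sr 0, 1), fun x hx => by
          show (u0 * h0 ^ (0 : ZMod 3).val * f1 1) * x * (u0 * h0 ^ (0 : ZMod 3).val * f1 1)⁻¹ = _
          rw [ZMod.val_zero, pow_zero, map_one, mul_one, mul_one, c0 x hx]⟩
      · exact ⟨(1, DihedralGroup.sr 0), fun x hx => by
          show (f0 1 * (u1 * h1 ^ (0 : ZMod 3).val)) * x * (f0 1 * (u1 * h1 ^ (0 : ZMod 3).val))⁻¹ = _
          rw [ZMod.val_zero, pow_zero, map_one, one_mul, mul_one, c1 x hx]⟩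
      · exact ⟨(DihedralGroup.sr 0, DihedralGroup.sr 0), fun x hx => by
          show (u0 * h0 ^ (0 : ZMod 3).val * (u1 * h1 ^ (0 : ZMod 3).val)) * x *
            (u0 * h0 ^ (0 : ZMod 3).val * (u1 * h1 ^ (0 : ZMod 3).val))⁻¹ = _
          rw [ZMod.val_zero, pow_zero, pow_zero, mul_one, mul_one]
          calc u0 * u1 * x * (u0 * u1)⁻¹ = u0 * (u1 * x * u1⁻¹) * u0⁻¹ := by group
            _ = u0 * (s1 * x * s1⁻¹) * u0⁻¹ := by rw [c1 x hx]
            _ = s0 * (s1 * x * s1⁻¹) * s0⁻¹ := c0 _ ((mem_normalizer_iff.1 ns1 x).1 hx)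
            _ = s0 * s1 * x * (s0 * s1)⁻¹ := by group⟩
    have hmem : (ι k)⁻¹ * n ∈ T := self (mem_centralizer_iff.2 fun x hx => by
      have e : n * x * n⁻¹ = ι k * x * (ι k)⁻¹ := (he x hx).trans (hk x hx).symm
      calc x * ((ι k)⁻¹ * n) = (ι k)⁻¹ * (ι k * x * (ι k)⁻¹) * n := by group
        _ = (ι k)⁻¹ * n * x := by rw [← e]; group)
    obtain ⟨t, -, ht⟩ := (hTmap ▸ hmem : (ι k)⁻¹ * n ∈ cubes.map ι)
    exact ⟨k * t, by rw [map_mul, ht, mul_inv_cancel_left]⟩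
  have hmem : ∀ h : Mod, h * h * h = 1 → ι h ∈ T := fun h hh => hTmap.symm ▸ ⟨h, hh, rfl⟩
  have hne : ∀ h : Mod, h ≠ 1 → ι h ≠ 1 := fun h h1' e => h1' (hinj (e.trans ι.map_one.symm))
  let Q : Mod → Subgroup X := fun h =>
    if hh : h * h * h = 1 ∧ h ≠ 1 then Classical.choose (cores (ι h) (hmem h hh.1) (hne h hh.2)) else ⊥
  have hQ : ∀ h : Mod, h * h * h = 1 → h ≠ 1 → Cored T (ι h) (Q h) ∧ ∀ r ∈ Q h, r * r = 1 := by
    intro h hh h1'
    simp only [Q, dif_pos (And.intro hh h1')]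
    exact Classical.choose_spec (cores (ι h) (hmem h hh) (hne h h1'))
  have hcop : ∀ h : Mod, h * h * h = 1 → h ≠ 1 → ¬ 3 ∣ Nat.card (Q h) := fun h hh h1' hd =>
    Nat.prime_three.not_dvd_one ((hQ h hh h1').1.cop.symm.dvd_of_dvd_mul_right (by simpa using hd) : 3 ∣ 1)
  have L : Co2Three.Grid.Loc ι Q := by
    refine Co2Three.Grid.loc_of_data hinj (fun h h' hh hh' hconj => ?_) (fun h hh h1' => (hQ h hh h1').1.le)
      (fun h hh h1' => (hQ h hh h1').1.normal) hcop (fun h hh h1' c hc => ?_) (fun h hh h1' => (hQ h hh h1').2)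
      (fun n hn hcn => ?_)
    · obtain ⟨n, hn, e⟩ := hT.fusion (hmem h hh) (hmem h' hh') hconj
      obtain ⟨k, rfl⟩ := hNr hn
      exact isConj_iff.2 ⟨k, hinj (by simpa using e)⟩
    · obtain ⟨r, hr, n, hn, rfl⟩ := (hQ h hh h1').1.dec c hc
      obtain ⟨k, rfl⟩ := hNr hn
      refine ⟨r, hr, k, hinj ?_, rfl⟩
      have e1 := mem_centralizer_singleton_iff.1 hc
      have e2 := mem_centralizer_singleton_iff.1 ((hQ h hh h1').1.le hr)
      rw [map_mul, map_mul]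
      refine mul_left_cancel (a := r) ?_
      rw [← mul_assoc, ← mul_assoc, e1, e2, mul_assoc]
    · have hnT : n ∈ T := by
        refine self (mem_centralizer_iff.2 fun x hx => ?_)
        have e0 : Commute n (ι (DihedralGroup.r 1, DihedralGroup.r 0)) :=
          (mem_centralizer_singleton_iff.1 ((hQ _ (by decide +kernel) (by decide +kernel)).1.le hn) : _)
        have e1 : Commute n (ι (DihedralGroup.r 0, DihedralGroup.r 1)) := hcn
        have e0' : n * h0 * n⁻¹ = 1 * h0 * 1⁻¹ := by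
          rw [hι, ZMod.val_zero, pow_zero, mul_one, show (1 : ZMod 3).val = 1 from rfl, pow_one] at e0
          rw [e0.eq]; group
        have e1' : n * h1 * n⁻¹ = 1 * h1 * 1⁻¹ := by
          rw [hι, ZMod.val_zero, pow_zero, one_mul, show (1 : ZMod 3).val = 1 from rfl, pow_one] at e1
          rw [e1.eq]; group
        have := conj_eq_of_gen gen e0' e1' x hx
        rw [one_mul, inv_one, mul_one] at this
        exact (mul_inv_eq_iff_eq_mul.1 this).symm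
      refine orderOf_eq_one_iff.1 (Nat.eq_one_of_dvd_coprimes (hQ _ (by decide +kernel) (by decide +kernel)).1.cop
        (Subgroup.orderOf_dvd_natCard _ hn) (orderOf_dvd_of_pow_eq_one (hT.exp n hnT)))
  obtain ⟨P, hP⟩ := hT.sylow
  obtain ⟨O, hO⟩ := L.exists_split P (hP.trans hTmap)
  exact ⟨O, hO.normal, ((Nat.prime_three.coprime_iff_not_dvd).2 hO.cop).symm, fun x =>
    let ⟨o, ho, h, e⟩ := hO.prod x
    ⟨o, ho, ι h, hrange ⟨h, rfl⟩, e⟩⟩

end

end Cfsg.Agent.U62Three.Rank2
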