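import Mathlib.Algebra.BigOperators.Group.Finset.Basic
import Mathlib.Algebra.Order.BigOperators.Group.Finset
import Mathlib.Tactic.Linarith
import Mathlib.Tactic.FinCases

/-! Four integral vectors of norm two with inner products one share a coordinate. -/

set_option autoImplicit false

namespace Cfsg.Agent.U62Three.Rank2

variable {ι : Type*} [DecidableEq ι]

theorem two_support (s : Finset ι) (w : ι → ℤ) (h : ∑ x ∈ s, w x * w x = 2) :
    (s.filter fun x => w x ≠ 0).card = 2 ∧ ∀ x ∈ s, w x ≠ 0 → w x = 1 ∨ w x = -1 := by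
  have hb : ∀ x ∈ s, w x ≠ 0 → w x = 1 ∨ w x = -1 := by
    intro x hx hne
    have hle : w x * w x ≤ 2 := h ▸ Finset.single_le_sum (fun y _ => mul_self_nonneg (w y)) hx
    have h3 : -2 < w x ∧ w x < 2 := ⟨by nlinarith, by nlinarith⟩
    omega
  refine ⟨?_, hb⟩
  have h1 : ∑ x ∈ s.filter (fun x => w x ≠ 0), w x * w x = ∑ _x ∈ s.filter (fun x => w x ≠ 0), (1 : ℤ) :=
    Finset.sum_congr rfl fun x hx => by
      obtain ⟨hxs, hne⟩ := Finset.mem_filter.1 hx
      rcases hb x hxs hne with e | e <;> rw [e] <;> norm_num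
  rw [Finset.sum_subset (Finset.filter_subset _ s) (fun x hx hn => by
      have e : w x = 0 := not_not.1 fun hne => hn (Finset.mem_filter.2 ⟨hx, hne⟩)
      rw [e, mul_zero]), h, Finset.sum_const,
    nsmul_eq_mul, mul_one] at h1
  exact_mod_cast h1.symm

/-- Two of them share one coordinate, with equal signs. -/
theorem one_common (s : Finset ι) (v w : ι → ℤ) (hv : ∑ x ∈ s, v x * v x = 2) (hw : ∑ x ∈ s, w x * w x = 2)
    (h : ∑ x ∈ s, v x * w x = 1) :
    ∃ c, (s.filter fun x => v x ≠ 0) ∩ (s.filter fun x => w x ≠ 0) = {c} ∧ v c * w c = 1 := by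
  obtain ⟨hv2, hvb⟩ := two_support s v hv
  obtain ⟨-, hwb⟩ := two_support s w hw
  set I := (s.filter fun x => v x ≠ 0) ∩ (s.filter fun x => w x ≠ 0) with hI
  have hsum : ∑ x ∈ I, v x * w x = 1 := by
    rw [← h]
    refine Finset.sum_subset (fun x hx => (Finset.mem_filter.1 (Finset.mem_inter.1 hx).1).1) fun x hx hn => ?_
    by_contra hne
    exact hn (Finset.mem_inter.2 ⟨Finset.mem_filter.2 ⟨hx, left_ne_zero_of_mul hne⟩,
      Finset.mem_filter.2 ⟨hx, right_ne_zero_of_mul hne⟩⟩)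
  have hterm : ∀ x ∈ I, v x * w x = 1 ∨ v x * w x = -1 := fun x hx => by
    obtain ⟨h1, h2⟩ := Finset.mem_inter.1 hx
    obtain ⟨hxs, hvx⟩ := Finset.mem_filter.1 h1
    obtain ⟨-, hwx⟩ := Finset.mem_filter.1 h2
    rcases hvb x hxs hvx with e | e <;> rcases hwb x hxs hwx with e' | e' <;> simp [e, e']
  have hle : I.card ≤ 2 := hv2 ▸ Finset.card_le_card Finset.inter_subset_left
  rcases (show I.card = 0 ∨ I.card = 1 ∨ I.card = 2 by omega) with e | e | e
  · rw [Finset.card_eq_zero.1 e, Finset.sum_empty] at hsum; exact absurd hsum (by norm_num)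
  · obtain ⟨c, hc⟩ := Finset.card_eq_one.1 e
    exact ⟨c, hc, by rwa [hc, Finset.sum_singleton] at hsum⟩
  · obtain ⟨a, b, hab, hI2⟩ := Finset.card_eq_two.1 e
    rw [hI2, Finset.sum_pair hab] at hsum
    rcases hterm a (hI2 ▸ Finset.mem_insert_self a _) with ea | ea <;>
      rcases hterm b (hI2 ▸ Finset.mem_insert_of_mem (Finset.mem_singleton_self b)) with eb | eb <;>
      rw [ea, eb] at hsum <;> exact absurd hsum (by norm_num)

/-- The star. -/
theorem star (s : Finset ι) (w : Fin 4 → ι → ℤ)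
    (h : ∀ i j, ∑ x ∈ s, w i x * w j x = if i = j then 2 else 1) :
    ∃ (c : ι) (σ : ℤ) (b : Fin 4 → ι) (τ : Fin 4 → ℤ), c ∈ s ∧ σ * σ = 1 ∧ Function.Injective b ∧
      (∀ i, b i ∈ s ∧ b i ≠ c ∧ τ i * τ i = 1) ∧
      ∀ i, ∀ x ∈ s, w i x = (if x = c then σ else 0) + (if x = b i then τ i else 0) := by
  set S : Fin 4 → Finset ι := fun i => s.filter fun x => w i x ≠ 0 with hS
  have hcard : ∀ i, (S i).card = 2 := fun i => (two_support s (w i) (by rw [h, if_pos rfl])).1
  have hpm : ∀ i, ∀ x ∈ s, w i x ≠ 0 → w i x = 1 ∨ w i x = -1 :=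
    fun i => (two_support s (w i) (by rw [h, if_pos rfl])).2
  have hone : ∀ i j, i ≠ j → ∃ c, S i ∩ S j = {c} ∧ w i c * w j c = 1 := fun i j hij =>
    one_common s (w i) (w j) (by rw [h, if_pos rfl]) (by rw [h, if_pos rfl]) (by rw [h, if_neg hij])
  -- two common elements are equal
  have huniq : ∀ i j, i ≠ j → ∀ x y, x ∈ S i → x ∈ S j → y ∈ S i → y ∈ S j → x = y := by
    intro i j hij x y hx hx' hy hy'
    obtain ⟨c, hc, -⟩ := hone i j hij
    have h1 : x ∈ S i ∩ S j := Finset.mem_inter.2 ⟨hx, hx'⟩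
    have h2 : y ∈ S i ∩ S j := Finset.mem_inter.2 ⟨hy, hy'⟩
    rw [hc, Finset.mem_singleton] at h1 h2
    rw [h1, h2]
  obtain ⟨c, hc, -⟩ := hone 0 1 (by decide)
  have hc0 : c ∈ S 0 := (Finset.mem_inter.1 (hc.symm ▸ Finset.mem_singleton_self c)).1
  have hc1 : c ∈ S 1 := (Finset.mem_inter.1 (hc.symm ▸ Finset.mem_singleton_self c)).2
  have hall : ∀ i, c ∈ S i := by
    have hstep : ∀ i j : Fin 4, i ≠ 0 → i ≠ 1 → j ≠ 0 → j ≠ 1 → i ≠ j → c ∈ S i := by
      intro i j i0 i1 j0 j1 hij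
      by_contra hci
      obtain ⟨b, hb, -⟩ := hone 0 i (Ne.symm i0)
      obtain ⟨d, hd, -⟩ := hone 1 i (Ne.symm i1)
      have hb' : b ∈ S 0 ∩ S i := hb.symm ▸ Finset.mem_singleton_self b
      have hd' : d ∈ S 1 ∩ S i := hd.symm ▸ Finset.mem_singleton_self d
      obtain ⟨hb0, hbi⟩ := Finset.mem_inter.1 hb'
      obtain ⟨hd1, hdi⟩ := Finset.mem_inter.1 hd'
      have hbc : b ≠ c := fun e => hci (e ▸ hbi)
      have hdc : d ≠ c := fun e => hci (e ▸ hdi)
      have hbd : b ≠ d := fun e => hbc (huniq 0 1 (by decide) b c hb0 (e ▸ hd1) hc0 hc1)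
      have two : ∀ (k : Fin 4) (x y : ι), x ≠ y → x ∈ S k → y ∈ S k → S k = {x, y} := fun k x y hxy hx hy =>
        (Finset.eq_of_subset_of_card_le (by intro z hz; simp at hz; rcases hz with rfl | rfl <;> assumption)
          (by rw [hcard, Finset.card_pair hxy])).symm
      have e0 := two 0 b c hbc hb0 hc0
      have e1 := two 1 d c hdc hd1 hc1
      have ei := two i b d hbd hbi hdi
      obtain ⟨x, hx, -⟩ := hone 0 j (Ne.symm j0)
      obtain ⟨y, hy, -⟩ := hone 1 j (Ne.symm j1)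
      obtain ⟨z, hz, -⟩ := hone i j hij
      obtain ⟨hx0, hxj⟩ := Finset.mem_inter.1 (hx.symm ▸ Finset.mem_singleton_self x : x ∈ S 0 ∩ S j)
      obtain ⟨hy1, hyj⟩ := Finset.mem_inter.1 (hy.symm ▸ Finset.mem_singleton_self y : y ∈ S 1 ∩ S j)
      obtain ⟨hzi, hzj⟩ := Finset.mem_inter.1 (hz.symm ▸ Finset.mem_singleton_self z : z ∈ S i ∩ S j)
      by_cases hcj : c ∈ S j
      · rw [ei] at hzi
        simp only [Finset.mem_insert, Finset.mem_singleton] at hzi
        rcases hzi with rfl | rfl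
        · exact hbc (huniq 0 j (Ne.symm j0) z c hb0 hzj hc0 hcj)
        · exact hdc (huniq 1 j (Ne.symm j1) z c hd1 hzj hc1 hcj)
      · rw [e0] at hx0
        rw [e1] at hy1
        simp only [Finset.mem_insert, Finset.mem_singleton] at hx0 hy1
        have hxb : x = b := hx0.resolve_right fun e => hcj (e ▸ hxj)
        have hyd : y = d := hy1.resolve_right fun e => hcj (e ▸ hyj)
        exact hbd (huniq i j hij b d hbi (hxb ▸ hxj) hdi (hyd ▸ hyj))
    intro i
    fin_cases i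
    · exact hc0
    · exact hc1
    · exact hstep 2 3 (by decide) (by decide) (by decide) (by decide) (by decide)
    · exact hstep 3 2 (by decide) (by decide) (by decide) (by decide) (by decide)
  have hb : ∀ i, ∃ b, b ≠ c ∧ S i = {c, b} := fun i => by
    obtain ⟨x, y, hxy, e⟩ := Finset.card_eq_two.1 (hcard i)
    have hci := hall i
    rw [e] at hci
    simp only [Finset.mem_insert, Finset.mem_singleton] at hci
    rcases hci with rfl | rfl
    · exact ⟨y, Ne.symm hxy, e⟩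
    · exact ⟨x, hxy, by rw [e, Finset.pair_comm]⟩
  choose b hbc hSb using hb
  have hcs : c ∈ s := (Finset.mem_filter.1 hc0).1
  have hbS : ∀ i, b i ∈ S i := fun i => by rw [hSb]; simp
  have hsig : ∀ i, w i c = w 0 c := by
    intro i
    by_cases hi : i = 0
    · rw [hi]
    obtain ⟨x, hx, hprod⟩ := hone i 0 hi
    have hcx : c ∈ S i ∩ S 0 := Finset.mem_inter.2 ⟨hall i, hc0⟩
    rw [hx, Finset.mem_singleton] at hcx
    subst hcx
    rcases Int.eq_one_or_neg_one_of_mul_eq_one' hprod with ⟨e1, e2⟩ | ⟨e1, e2⟩ <;> rw [e1, e2]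
  have hsq : ∀ i x, x ∈ S i → w i x * w i x = 1 := fun i x hx => by
    obtain ⟨hxs, hne⟩ := Finset.mem_filter.1 hx
    rcases hpm i x hxs hne with e | e <;> rw [e] <;> norm_num
  refine ⟨c, w 0 c, b, fun i => w i (b i), hcs, hsq 0 c hc0, ?_,
    fun i => ⟨(Finset.mem_filter.1 (hbS i)).1, hbc i, hsq i _ (hbS i)⟩, fun i x hx => ?_⟩
  · intro i j e
    by_contra hij
    exact hbc i (huniq i j hij (b i) c (hbS i) (e ▸ hbS j) (hall i) (hall j))
  · by_cases h1 : x = c
    · subst h1; rw [if_pos rfl, if_neg (Ne.symm (hbc i)), add_zero, hsig]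
    by_cases h2 : x = b i
    · subst h2; rw [if_neg h1, if_pos rfl, zero_add]
    rw [if_neg h1, if_neg h2, add_zero]
    by_contra hne
    have h3 : x ∈ S i := Finset.mem_filter.2 ⟨hx, hne⟩
    rw [hSb i] at h3
    simp [h1, h2] at h3

end Cfsg.Agent.U62Three.Rank2
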