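import Cfsg.Agent.Lib.U62Three.Rank2.Basic
import Cfsg.Agent.Lib.U62Three.Rank2.Star
import Cfsg.Agent.Lib.FiniteGroup.CyclicPGroup
import Cfsg.Agent.Lib.Small.Exceptional
import Cfsg.Agent.Lib.Small.ClassCount
import Cfsg.Agent.Lib.G22Rec.Local
import Cfsg.Agent.Lib.Char.PermChar

/-!
A self-centralising Sylow subgroup of order nine whose normaliser only inverts it is normal.
-/

set_option autoImplicit false
set_option linter.style.haveILetI false

namespace Cfsg.Agent.U62Three.Rank2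

open Subgroup Cfsg Cfsg.Agent.Char
open scoped ComplexConjugate

universe u

variable {X : Type u} [Group X] [Finite X]

/-- Elements of order three with product an involution: the first is conjugate to the inverse of the second. -/
theorem isConj_of_mul_sq {a b : X} (hb : b ^ 3 = 1) (ha : a ^ 3 = 1) (hab : a * b * (a * b) = 1) :
    IsConj a b⁻¹ := by
  set u := a * b with hu
  have hu' : u⁻¹ = u := inv_eq_of_mul_eq_one_right hab
  have hbi : b⁻¹ = u * a := by
    rw [show b⁻¹ = u⁻¹ * a by rw [hu]; group, hu']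
  have h3 : (u * a) ^ 3 = 1 := by rw [← hbi, inv_pow, hb, inv_one]
  refine isConj_iff.2 ⟨a * u * a⁻¹, ?_⟩
  rw [hbi]
  have e1 : u * a * u * a * u = a⁻¹ := by
    rw [pow_three] at h3
    refine eq_inv_of_mul_eq_one_left ?_
    rw [← h3]; group
  have ha2 : a⁻¹ * a⁻¹ = a := by
    rw [pow_three] at ha
    calc a⁻¹ * a⁻¹ = a⁻¹ * a⁻¹ * (a * (a * a)) := by rw [ha, mul_one]
      _ = a := by group
  calc a * u * a⁻¹ * a * (a * u * a⁻¹)⁻¹ = a * u * (a * u⁻¹ * a⁻¹) := by group
    _ = a * u * a * u * a⁻¹ := by rw [hu']; group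
    _ = u * (u * a * u * a * u) * a⁻¹ := by
        calc a * u * a * u * a⁻¹ = (u * u) * (a * u * a * u) * a⁻¹ := by rw [hab, one_mul]
          _ = _ := by group
    _ = u * (a⁻¹ * a⁻¹) := by rw [e1]; group
    _ = u * a := by rw [ha2]

theorem dirs : ∀ i j : Fin 4, i ≠ j →
    (![(1, 0), (0, 1), (1, 1), (1, 2)] : Fin 4 → ZMod 3 × ZMod 3) i ≠
        (![(1, 0), (0, 1), (1, 1), (1, 2)] : Fin 4 → ZMod 3 × ZMod 3) j ∧
      (![(1, 0), (0, 1), (1, 1), (1, 2)] : Fin 4 → ZMod 3 × ZMod 3) i ≠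
        -((![(1, 0), (0, 1), (1, 1), (1, 2)] : Fin 4 → ZMod 3 × ZMod 3) j) := by decide +kernel

/-- A degree one or a central involution. -/
theorem degree_or_value {d y dc yc σ τ : ℤ} (hσ : σ * σ = 1) (h1 : σ * dc = -1 - τ * d)
    (h2 : σ * yc = -1 - τ * y) (h : (d + y) * dc = 2 * yc * d) : (τ * d - 1) * (d - y) = 0 := by
  linear_combination σ * h * (-1) + (d + y) * h1 - 2 * d * h2 + 0 * hσ

section

variable {T : Subgroup X} (hT : Nine T)
include hT

theorem noncyclic : ¬ IsCyclic T := by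
  intro hc
  obtain ⟨g, hg⟩ := IsCyclic.exists_ofOrder_eq_natCard (α := T)
  have h1 := orderOf_dvd_of_pow_eq_one (Subtype.ext (hT.exp g g.2) : g ^ 3 = 1)
  rw [hg, hT.card] at h1
  norm_num at h1

/-- Central in the normaliser and self-centralising: the whole group. -/
theorem eq_top_of_central (self : ∀ h ∈ T, h ≠ 1 → centralizer ({h} : Set X) ≤ T)
    (hA : normalizer (T : Set X) ≤ centralizer (T : Set X)) : T = ⊤ := by
  haveI : Fact (Nat.Prime 3) := ⟨Nat.prime_three⟩
  obtain ⟨O, hO, hcop, hdec⟩ := split_central hT hA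
  have hO1 : O = ⊥ := by
    by_contra hne
    have hp : IsPGroup 3 T := IsPGroup.of_card (n := 2) (by rw [hT.card]; norm_num)
    refine noncyclic hT (CyclicPGroup.isCyclic_of_fixedPointFree (by norm_num) hp
      (by rw [normalizer_eq_top_iff.2 hO]; exact le_top) (by rw [hT.card]; exact (hcop.pow_right 2).symm) hne
      fun a ha a1 k hk k1 hc => ?_)
    have hkT : k ∈ T := self a ha a1 (mem_centralizer_singleton_iff.2 hc.symm)
    exact k1 (orderOf_eq_one_iff.1 (Nat.eq_one_of_dvd_coprimes hcop (Subgroup.orderOf_dvd_natCard O hk)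
      (orderOf_dvd_of_pow_eq_one (hT.exp k hkT))))
  obtain ⟨a, ha, a1⟩ : ∃ a ∈ T, a ≠ 1 := by
    by_contra hh
    push Not at hh
    have h := hT.card
    rw [show T = ⊥ from eq_bot_iff.2 fun x hx => mem_bot.2 (hh x hx), card_bot] at h
    norm_num at h
  refine eq_top_iff.2 fun x _ => ?_
  obtain ⟨o, ho, n, hn, rfl⟩ := hdec x
  rw [hO1, mem_bot] at ho
  rw [ho, one_mul]
  exact self a ha a1 (mem_centralizer_singleton_iff.2 (mem_centralizer_iff.1 (hA hn) a ha).symm)

/-- **(D)** Self-centralising and only inverted: normal. -/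
theorem normal_of_inversion (self : ∀ h ∈ T, h ≠ 1 → centralizer ({h} : Set X) ≤ T)
    (act : ∀ n ∈ normalizer (T : Set X), (∀ x ∈ T, n * x * n⁻¹ = x) ∨ ∀ x ∈ T, n * x * n⁻¹ = x⁻¹) :
    T.Normal := by
  classical
  haveI : Fact (Nat.Prime 3) := ⟨Nat.prime_three⟩
  by_cases hA : normalizer (T : Set X) ≤ centralizer (T : Set X)
  · rw [eq_top_of_central hT self hA]; exact inferInstance
  obtain ⟨n, hn, hnc⟩ := SetLike.not_le_iff_exists.1 hA
  have hinv : ∀ x ∈ T, n * x * n⁻¹ = x⁻¹ := (act n hn).resolve_left fun e =>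
    hnc (mem_centralizer_iff.2 fun x hx => (mul_inv_eq_iff_eq_mul.1 (e x hx)).symm)
  letI := Fintype.ofFinite X
  -- generators
  obtain ⟨h0, m0, h0ne⟩ : ∃ a ∈ T, a ≠ 1 := by
    by_contra hh
    push Not at hh
    exact hnc (mem_centralizer_iff.2 fun x hx => by rw [hh x hx]; simp)
  obtain ⟨h1, m1, h1z⟩ : ∃ a ∈ T, a ∉ zpowers h0 := by
    by_contra hh
    push Not at hh
    have h9 := Subgroup.card_dvd_of_le (show T ≤ zpowers h0 from hh)
    rw [hT.card, Nat.card_zpowers, hT.order m0 h0ne] at h9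
    norm_num at h9
  have h1ne : h1 ≠ 1 := fun e => h1z (e ▸ one_mem _)
  have hTC : ∀ a ∈ T, a ≠ 1 → centralizer ({a} : Set X) = T := fun a ha a1 =>
    le_antisymm (self a ha a1) (hT.le_centralizer ha)
  -- the four lines
  set hs : Fin 4 → X := ![h0, h1, h0 * h1, h0 * h1⁻¹] with hhs
  have hmemT : ∀ i, hs i ∈ T := by
    intro i
    fin_cases i
    exacts [m0, m1, mul_mem m0 m1, mul_mem m0 (inv_mem m1)]
  have hsne : ∀ i, hs i ≠ 1 := by
    intro i
    fin_cases i
    · exact h0ne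
    · exact h1ne
    · exact fun e => h1z (by rw [eq_inv_of_mul_eq_one_right (show h0 * h1 = 1 from e)]; exact inv_mem (mem_zpowers _))
    · exact fun e => h1z (by rw [← mul_inv_eq_one.1 (show h0 * h1⁻¹ = 1 from e)]; exact mem_zpowers _)
  have hnz : ∀ i j, i ≠ j → hs i ≠ hs j ∧ hs i ≠ (hs j)⁻¹ := by
    let e : ZMod 3 × ZMod 3 → X := fun p => h0 ^ p.1.val * h1 ^ p.2.val
    have c01 : Commute h0 h1 := hT.comm _ m0 _ m1
    have hadd : ∀ (g : X), g ^ 3 = 1 → ∀ i j : ZMod 3, g ^ (i + j).val = g ^ i.val * g ^ j.val := fun g hg i j => by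
      rw [ZMod.val_add, ← pow_add]; exact (pow_eq_pow_mod _ hg).symm
    have emul : ∀ p q, e (p + q) = e p * e q := fun p q => by
      show h0 ^ (p.1 + q.1).val * h1 ^ (p.2 + q.2).val = h0 ^ p.1.val * h1 ^ p.2.val * (h0 ^ q.1.val * h1 ^ q.2.val)
      rw [hadd _ (hT.exp _ m0), hadd _ (hT.exp _ m1)]
      exact (c01.pow_pow q.1.val p.2.val).mul_mul_mul_comm _ _
    have e0 : e 0 = 1 := by
      show h0 ^ (0 : ZMod 3).val * h1 ^ (0 : ZMod 3).val = 1
      rw [ZMod.val_zero, pow_zero, pow_zero, one_mul]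
    have eker : ∀ p, e p = 1 → p = 0 := by
      rintro ⟨i, j⟩ hp
      have hp' : h0 ^ i.val * h1 ^ j.val = 1 := hp
      have hj : j = 0 := by
        by_contra hj
        obtain ⟨k, hk⟩ := exists_pow_eq_self_of_coprime (x := h1) (n := j.val) (by
          rw [hT.order m1 h1ne]
          refine ((Nat.prime_three.coprime_iff_not_dvd).2 fun hd => hj ?_).symm
          exact (ZMod.val_eq_zero j).1 (Nat.eq_zero_of_dvd_of_lt hd j.val_lt))
        refine h1z ?_
        rw [← hk, eq_inv_of_mul_eq_one_right hp']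
        exact pow_mem (inv_mem (pow_mem (mem_zpowers h0) _)) k
      subst hj
      rw [ZMod.val_zero, pow_zero, mul_one] at hp'
      have hd := orderOf_dvd_of_pow_eq_one hp'
      rw [hT.order m0 h0ne] at hd
      rw [(ZMod.val_eq_zero i).1 (Nat.eq_zero_of_dvd_of_lt hd i.val_lt)]
      rfl
    have einj : ∀ p q, e p = e q → p = q := fun p q h => by
      have h2 : e (p + -q) = 1 := by rw [emul, h, ← emul, add_neg_cancel, e0]
      exact sub_eq_zero.1 (by rw [sub_eq_add_neg]; exact eker _ h2)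
    have eneg : ∀ p, e (-p) = (e p)⁻¹ := fun p => eq_inv_of_mul_eq_one_left (by rw [← emul, neg_add_cancel, e0])
    let p : Fin 4 → ZMod 3 × ZMod 3 := ![(1, 0), (0, 1), (1, 1), (1, 2)]
    have hp : ∀ i, hs i = e (p i) := by
      have v1 : (1 : ZMod 3).val = 1 := rfl
      have v2 : (2 : ZMod 3).val = 2 := rfl
      have z2 : h1⁻¹ = h1 ^ 2 := inv_eq_of_mul_eq_one_right (by rw [← pow_succ']; exact hT.exp h1 m1)
      intro i
      fin_cases i <;> simp [hhs, e, p, v1, v2, z2]
    have hdec : ∀ i j : Fin 4, i ≠ j → p i ≠ p j ∧ p i ≠ -(p j) := dirs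
    intro i j hij
    rw [hp i, hp j, ← eneg]
    exact ⟨fun h => (hdec i j hij).1 (einj _ _ h), fun h => (hdec i j hij).2 (einj _ _ h)⟩
  have hncj : ∀ i j, i ≠ j → ¬ IsConj (hs i) (hs j) := by
    intro i j hij hc
    obtain ⟨k, hk, e⟩ := hT.fusion (hmemT i) (hmemT j) hc
    rcases act k hk with e1 | e1
    · exact (hnz i j hij).1 ((e1 _ (hmemT i)).symm.trans e)
    · refine (hnz i j hij).2 ?_
      rw [← e, e1 _ (hmemT i), inv_inv]
  -- the values
  have hval' : ∀ (χ : IrrCharacter X) (i : Fin 4), ∃ v : ℤ, (χ : X → ℂ) (hs i) = v ∧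
      ∃ d : ℕ, (χ : X → ℂ) 1 = d ∧ ((d : ℤ) - v) % 3 = 0 := by
    intro χ i
    obtain ⟨d, -, hd⟩ := IsIrrCharacter.exists_degree χ.2
    have hreal : conj ((χ : X → ℂ) (hs i)) = (χ : X → ℂ) (hs i) := by
      rw [← IsCharacter.inv (IsIrrCharacter.isCharacter χ.2)]
      exact (isClassFunction_iff.mp (IsCharacter.isClassFunction (IsIrrCharacter.isCharacter χ.2)) _ _
        (isConj_iff.2 ⟨n, hinv _ (hmemT i)⟩)).symm
    obtain ⟨v, hv, -, -, hmod⟩ := G22Rec.value_three (IsIrrCharacter.isCharacter χ.2)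
      (hT.order (hmemT i) (hsne i)) hd hreal
    exact ⟨v, hv, d, hd, hmod⟩
  choose v hv hvc using hval'
  choose dg hdg hdmod using hvc
  have horth : ∀ i j, ∑ χ : IrrCharacter X, v χ i * v χ j = if i = j then 9 else 0 := by
    intro i j
    have key : ((∑ χ : IrrCharacter X, v χ i * v χ j : ℤ) : ℂ) = ((if i = j then 9 else 0 : ℤ) : ℂ) := by
      push_cast
      have e : ∀ χ : IrrCharacter X, (v χ i : ℂ) * (v χ j : ℂ) =
          (χ : X → ℂ) (hs i) * conj ((χ : X → ℂ) (hs j)) := fun χ => by rw [hv, hv, map_intCast]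
      simp only [e]
      split_ifs with hij
      · subst hij
        rw [column_orth_of_isConj (IsConj.refl _), hTC _ (hmemT i) (hsne i), hT.card]
        norm_num
      · rw [column_orth_of_not_isConj (hncj i j hij)]
    exact_mod_cast key
  -- the four vectors
  let a : Fin 4 → Fin 4 → ℤ := ![![1, 0, 0, -1], ![0, 1, 0, -1], ![0, 0, 1, -1], ![1, 1, 1, 0]]
  let wsum : Fin 4 → IrrCharacter X → ℤ := fun i χ => ∑ k, a i k * v χ k
  have hdiv : ∀ i χ, (3 : ℤ) ∣ wsum i χ := by
    intro i χ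
    have hm : ∀ k, (3 : ℤ) ∣ (dg χ 0 : ℤ) - v χ k := fun k => by
      have e : dg χ k = dg χ 0 := by exact_mod_cast (hdg χ k).symm.trans (hdg χ 0)
      exact Int.dvd_of_emod_eq_zero (e ▸ hdmod χ k)
    have h0' := hm 0
    have h1' := hm 1
    have h2' := hm 2
    have h3' := hm 3
    fin_cases i <;> simp [wsum, a, Fin.sum_univ_four] <;> omega
  let w : Fin 4 → IrrCharacter X → ℤ := fun i χ => wsum i χ / 3
  have hw3 : ∀ i χ, wsum i χ = 3 * w i χ := fun i χ => (Int.mul_ediv_cancel' (hdiv i χ)).symm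
  set o := Exc.one X with ho
  have hone : ∀ g : X, (o : X → ℂ) g = 1 := Exc.one_apply
  have hvo : ∀ i, v o i = 1 := fun i => by exact_mod_cast (hv o i).symm.trans (hone _)
  have hwo : ∀ i, w i o = if i = 3 then 1 else 0 := by
    intro i
    have := hw3 i o
    fin_cases i <;> simp [wsum, a, Fin.sum_univ_four, hvo] at this ⊢ <;> omega
  have hgram : ∀ i j, ∑ χ ∈ Finset.univ.erase o, w i χ * w j χ = if i = j then 2 else 1 := by
    intro i j
    have h1 : ∑ χ : IrrCharacter X, wsum i χ * wsum j χ = 9 * ∑ k, a i k * a j k := by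
      simp only [wsum, Finset.sum_mul, Finset.mul_sum]
      rw [Finset.sum_comm]
      refine Finset.sum_congr rfl fun k _ => ?_
      rw [Finset.sum_comm]
      calc ∑ l, ∑ χ : IrrCharacter X, a i l * v χ l * (a j k * v χ k)
          = ∑ l, a i l * a j k * ∑ χ : IrrCharacter X, v χ l * v χ k := Finset.sum_congr rfl fun l _ => by
            rw [Finset.mul_sum]; exact Finset.sum_congr rfl fun χ _ => by ring
        _ = 9 * (a i k * a j k) := by
            simp only [horth, mul_ite, mul_zero, Finset.sum_ite_eq', Finset.mem_univ, if_true]; ring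
    simp only [hw3] at h1
    rw [← Finset.add_sum_erase _ _ (Finset.mem_univ o), hwo, hwo] at h1
    have h2 : ∑ χ ∈ Finset.univ.erase o, 3 * w i χ * (3 * w j χ) =
        9 * ∑ χ ∈ Finset.univ.erase o, w i χ * w j χ := by
      rw [Finset.mul_sum]; exact Finset.sum_congr rfl fun χ _ => by ring
    rw [h2] at h1
    fin_cases i <;> fin_cases j <;> simp [a, Fin.sum_univ_four] at h1 ⊢ <;> omega
  obtain ⟨c, σ, b, τ, hc, hσ, hbinj, hb, hform⟩ := star (Finset.univ.erase o) w hgram
  have hdeg : ∀ χ : IrrCharacter X, (χ : X → ℂ) 1 = dg χ 0 := fun χ => hdg χ 0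
  -- linear relations
  have lin : ∀ (g : X) (y : IrrCharacter X → ℤ), (∀ χ : IrrCharacter X, (χ : X → ℂ) g = y χ) →
      (∀ i, ¬ IsConj g (hs i)) → ∀ i, (if i = 3 then 1 else 0) + σ * y c + τ i * y (b i) = 0 := by
    intro g y hy hg i
    have hk : ∀ k, ∑ χ : IrrCharacter X, v χ k * y χ = 0 := by
      intro k
      have key : ((∑ χ : IrrCharacter X, v χ k * y χ : ℤ) : ℂ) = ((0 : ℤ) : ℂ) := by
        rw [Int.cast_zero, ← column_orth_of_not_isConj (hg k)]
        push_cast
        exact Finset.sum_congr rfl fun χ _ => by rw [hy, hv, map_intCast, mul_comm]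
      exact_mod_cast key
    have h1 : ∑ χ : IrrCharacter X, wsum i χ * y χ = 0 := by
      simp only [wsum, Finset.sum_mul]
      rw [Finset.sum_comm]
      refine Finset.sum_eq_zero fun k _ => ?_
      simp only [mul_assoc, ← Finset.mul_sum, hk, mul_zero]
    have h2 : ∑ χ : IrrCharacter X, w i χ * y χ = 0 := by
      simp only [hw3, mul_assoc, ← Finset.mul_sum] at h1
      omega
    have hyo : y o = 1 := by exact_mod_cast (hy o).symm.trans (hone g)
    rw [← Finset.add_sum_erase _ _ (Finset.mem_univ o), hwo, hyo, mul_one,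
      Finset.sum_congr rfl (fun χ hχ => by rw [hform i χ hχ, add_mul, ite_mul, ite_mul, zero_mul]),
      Finset.sum_add_distrib, Finset.sum_ite_eq', Finset.sum_ite_eq', if_pos hc, if_pos (hb i).1] at h2
    linarith
  have hordh : ∀ g : X, g * g = 1 → ∀ i, ¬ IsConj g (hs i) := by
    intro g hg i hcj
    obtain ⟨k, hk⟩ := isConj_iff.1 hcj
    have h2 : hs i * hs i = 1 := by
      rw [← hk, show k * g * k⁻¹ * (k * g * k⁻¹) = k * (g * g) * k⁻¹ by group, hg]; group
    have h3 := hT.exp _ (hmemT i)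
    rw [pow_succ, pow_two, h2, one_mul] at h3
    exact hsne i h3
  have hd := lin 1 (fun χ => dg χ 0) (fun χ => by rw [hdeg]; push_cast; rfl) (hordh 1 (one_mul 1))
  -- the value at an involution
  have main : ∀ u : X, orderOf u = 2 → ∀ y : IrrCharacter X → ℤ, (∀ χ : IrrCharacter X, (χ : X → ℂ) u = y χ) →
      (τ 3 * dg (b 3) 0 - 1) * ((dg (b 3) 0 : ℤ) - y (b 3)) = 0 := by
    intro u hu y hy
    have huu : u * u = 1 := by rw [← pow_two, ← hu, pow_orderOf_eq_one]
    have hyl := lin u y hy (hordh u huu)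
    have hd3 := hd 3
    have hy3 := hyl 3
    simp only [if_pos] at hd3 hy3
    refine degree_or_value hσ (dc := dg c 0) (yc := y c) (by linarith) (by linarith) ?_
    -- no product of the two classes is this involution
    have hpc := ClassCount.pair_count (hs 0) (hs 1) u
    have hzero : Nat.card {z : X // IsConj (hs 0) z ∧ IsConj (hs 1) (z⁻¹ * u)} = 0 := by
      rw [Nat.card_eq_zero]
      left
      refine ⟨fun ⟨z, hz0, hz1⟩ => ?_⟩
      have cube : ∀ i z, IsConj (hs i) z → z ^ 3 = 1 := fun i z hz => by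
        obtain ⟨k, rfl⟩ := isConj_iff.1 hz
        rw [conj_pow, hT.exp _ (hmemT i)]; group
      have h2 := isConj_of_mul_sq (cube 1 _ hz1) (cube 0 _ hz0)
        (by rw [mul_inv_cancel_left]; exact huu)
      obtain ⟨k, hk⟩ := isConj_iff.1 hz1
      have h3 : IsConj (z⁻¹ * u)⁻¹ (hs 1) := by
        refine (isConj_iff.2 ⟨k * n, ?_⟩ : IsConj (hs 1) (z⁻¹ * u)⁻¹).symm
        rw [← hk, show k * n * hs 1 * (k * n)⁻¹ = k * (n * hs 1 * n⁻¹) * k⁻¹ by group, hinv _ (hmemT 1)]
        group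
      exact hncj 0 1 (by decide) ((hz0.trans h2).trans h3)
    rw [hzero, Nat.cast_zero, zero_mul, zero_mul, eq_comm, mul_eq_zero,
      or_iff_right (Nat.cast_ne_zero.2 Nat.card_pos.ne'), ← Finset.add_sum_erase _ _ (Finset.mem_univ o)] at hpc
    have hterm : ∀ χ ∈ Finset.univ.erase o, (χ : X → ℂ) (hs 0) * (χ : X → ℂ) (hs 1) * conj ((χ : X → ℂ) u) /
        (χ : X → ℂ) 1 = (if χ = c then (1 : ℂ) * ((y χ : ℂ) / (dg χ 0 : ℂ)) else 0) +
          ((if χ = b 0 then (-2 : ℂ) * ((y χ : ℂ) / (dg χ 0 : ℂ)) else 0) +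
          ((if χ = b 1 then (-2 : ℂ) * ((y χ : ℂ) / (dg χ 0 : ℂ)) else 0) +
          ((if χ = b 2 then (1 : ℂ) * ((y χ : ℂ) / (dg χ 0 : ℂ)) else 0) +
          (if χ = b 3 then (1 : ℂ) * ((y χ : ℂ) / (dg χ 0 : ℂ)) else 0)))) := by
      intro χ hχ
      have hv01 : (v χ 0 : ℤ) * v χ 1 = (if χ = c then 1 else 0) + ((if χ = b 0 then -2 else 0) +
          ((if χ = b 1 then -2 else 0) + ((if χ = b 2 then 1 else 0) + (if χ = b 3 then 1 else 0)))) := by
        have e0 := hw3 0 χ
        have e1 := hw3 1 χ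
        have e2 := hw3 2 χ
        have e3 := hw3 3 χ
        simp [wsum, a, Fin.sum_univ_four] at e0 e1 e2 e3
        rw [show v χ 0 = w 3 χ + 2 * w 0 χ - w 1 χ - w 2 χ by omega,
          show v χ 1 = w 3 χ - w 0 χ + 2 * w 1 χ - w 2 χ by omega]
        simp only [hform _ χ hχ]
        have t := fun i => (hb i).2.2
        have hne : ∀ i j, i ≠ j → b i ≠ b j := fun i j h e => h (hbinj e)
        by_cases hc' : χ = c
        · subst hc'
          simp only [if_pos, if_neg (Ne.symm (hb 0).2.1), if_neg (Ne.symm (hb 1).2.1), if_neg (Ne.symm (hb 2).2.1),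
            if_neg (Ne.symm (hb 3).2.1)]
          linear_combination hσ
        by_cases h0' : χ = b 0
        · subst h0'
          simp only [if_pos, if_neg hc', if_neg (hne 0 1 (by decide)), if_neg (hne 0 2 (by decide)),
            if_neg (hne 0 3 (by decide))]
          linear_combination (-2) * t 0
        by_cases h1' : χ = b 1
        · subst h1'
          simp only [if_pos, if_neg hc', if_neg (hne 1 0 (by decide)), if_neg (hne 1 2 (by decide)),
            if_neg (hne 1 3 (by decide))]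
          linear_combination (-2) * t 1
        by_cases h2' : χ = b 2
        · subst h2'
          simp only [if_pos, if_neg hc', if_neg (hne 2 0 (by decide)), if_neg (hne 2 1 (by decide)),
            if_neg (hne 2 3 (by decide))]
          linear_combination t 2
        by_cases h3' : χ = b 3
        · subst h3'
          simp only [if_pos, if_neg hc', if_neg (hne 3 0 (by decide)), if_neg (hne 3 1 (by decide)),
            if_neg (hne 3 2 (by decide))]
          linear_combination t 3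
        simp only [if_neg hc', if_neg h0', if_neg h1', if_neg h2', if_neg h3']
        ring
      rw [hv, hv, hy, map_intCast, hdeg, ← Int.cast_mul, hv01]
      push_cast
      ring_nf
      split_ifs <;> ring
    rw [Finset.sum_congr rfl hterm, hone, hone, hone, hone, map_one] at hpc
    simp only [Finset.sum_add_distrib, Finset.sum_ite_eq', if_pos hc, if_pos (hb 0).1, if_pos (hb 1).1,
      if_pos (hb 2).1, if_pos (hb 3).1] at hpc
    have hpos : ∀ χ : IrrCharacter X, (dg χ 0 : ℂ) ≠ 0 := fun χ => by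
      obtain ⟨d, hd0, hd'⟩ := IsIrrCharacter.exists_degree χ.2
      rw [← hdeg, hd']; exact Nat.cast_ne_zero.2 (by omega)
    have hrat : ∀ i, i ≠ 3 → (y (b i) : ℂ) / (dg (b i) 0 : ℂ) = (y c : ℂ) / (dg c 0 : ℂ) := by
      intro i hi
      have p := hd i
      have q := hyl i
      simp only [if_neg hi] at p q
      rw [div_eq_div_iff (hpos _) (hpos _)]
      have key : y (b i) * (dg c 0 : ℤ) = y c * (dg (b i) 0 : ℤ) := by
        linear_combination (τ i * dg c 0) * q - (τ i * y c) * p - (y (b i) * dg c 0 - y c * dg (b i) 0) * (hb i).2.2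
      exact_mod_cast key
    rw [hrat 0 (by decide), hrat 1 (by decide), hrat 2 (by decide)] at hpc
    have hc0 := hpos c
    have hb0 := hpos (b 3)
    field_simp at hpc
    have hz : (((dg (b 3) 0 : ℤ) + y (b 3)) * (dg c 0 : ℤ) : ℂ) = ((2 * y c * (dg (b 3) 0 : ℤ) : ℤ) : ℂ) := by
      push_cast
      linear_combination hpc
    exact_mod_cast hz
  set χ3 := b 3 with hχ3
  have hne3 : χ3 ≠ o := (Finset.mem_erase.1 (hb 3).1).1
  have hv3 : ∀ k, v χ3 k = τ 3 := by
    intro k
    have hne : ∀ i, i ≠ 3 → b 3 ≠ b i := fun i hi e => hi (hbinj e).symm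
    have e := fun i => hform i χ3 (hb 3).1
    have e0 := hw3 0 χ3
    have e1 := hw3 1 χ3
    have e2 := hw3 2 χ3
    have e3 := hw3 3 χ3
    rw [e, if_neg (hb 3).2.1, if_neg (hne 0 (by decide))] at e0
    rw [e, if_neg (hb 3).2.1, if_neg (hne 1 (by decide))] at e1
    rw [e, if_neg (hb 3).2.1, if_neg (hne 2 (by decide))] at e2
    rw [e, if_neg (hb 3).2.1, if_pos hχ3] at e3
    simp [wsum, a, Fin.sum_univ_four] at e0 e1 e2 e3
    fin_cases k <;> simp <;> omega
  -- the inverting involution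
  have hnn : n * n = 1 := by
    have hmem : n * n ∈ T := self h0 m0 h0ne (mem_centralizer_singleton_iff.2 (mul_inv_eq_iff_eq_mul.1 (by
      rw [show n * n * h0 * (n * n)⁻¹ = n * (n * h0 * n⁻¹) * n⁻¹ by group, hinv _ m0,
        show n * h0⁻¹ * n⁻¹ = (n * h0 * n⁻¹)⁻¹ by group, hinv _ m0, inv_inv])))
    have h2 := hinv _ hmem
    rw [show n * (n * n) * n⁻¹ = n * n by group] at h2
    have h3 := hT.exp _ hmem
    rw [pow_succ, pow_two, show n * n * (n * n) = 1 by rw [← inv_eq_iff_mul_eq_one]; exact h2.symm, one_mul] at h3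
    exact h3
  have hn2 : orderOf n = 2 := orderOf_eq_prime (by rw [pow_two]; exact hnn) fun e => hnc (e ▸ one_mem _)
  choose yn hyn using fun χ : IrrCharacter X => (show ∃ z : ℤ, (χ : X → ℂ) n = z by
    obtain ⟨m, hm⟩ := G22Rec.value_two (IsIrrCharacter.isCharacter χ.2) hn2 (hdeg χ)
    exact ⟨2 * m - dg χ 0, by rw [hm]; push_cast; ring⟩)
  have hd1 : dg χ3 0 = 1 := by
    rcases mul_eq_zero.1 (main n hn2 yn hyn) with e | e
    · rcases Int.eq_one_or_neg_one_of_mul_eq_one' (show τ 3 * (dg χ3 0 : ℤ) = 1 by linarith) with ⟨-, e2⟩ | ⟨-, e2⟩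
      · exact_mod_cast e2
      · omega
    · obtain ⟨N, hN, hker, -⟩ := IsCharacter.exists_kernel (IsIrrCharacter.isCharacter χ3.2)
      have hnN : n ∈ N := (hker _).2 (by rw [hyn, hdeg]; exact_mod_cast (show yn χ3 = (dg χ3 0 : ℤ) by linarith))
      have h0N : h0 ∈ N := by
        have h2 : n * h0 * n⁻¹ * h0⁻¹ ∈ N := by
          rw [show n * h0 * n⁻¹ * h0⁻¹ = n * (h0 * n⁻¹ * h0⁻¹) by group]
          exact mul_mem hnN (hN.conj_mem _ (inv_mem hnN) h0)
        rw [hinv _ m0] at h2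
        have h3 := hT.exp h0 m0
        rw [pow_three] at h3
        have e' : h0 = h0⁻¹ * h0⁻¹ := by
          calc h0 = h0⁻¹ * h0⁻¹ * (h0 * (h0 * h0)) := by group
            _ = _ := by rw [h3, mul_one]
        rwa [← e'] at h2
      have h0v := (hker _).1 h0N
      rw [hdeg, show (χ3 : X → ℂ) h0 = (v χ3 0 : ℂ) from hv χ3 0, hv3] at h0v
      have h0v' : τ 3 = (dg χ3 0 : ℤ) := by exact_mod_cast h0v
      have ht := (hb 3).2.2
      rcases Int.eq_one_or_neg_one_of_mul_eq_one' ht with ⟨e1, -⟩ | ⟨e1, -⟩ <;> omega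
  obtain ⟨f, hf⟩ := exists_hom_of_degree_one (IsIrrCharacter.isCharacter χ3.2)
    (by rw [hdeg, hd1, Nat.cast_one])
  have hfT : T ≤ f.ker := by
    have hval : ∀ i, f (hs i) = 1 := by
      intro i
      have h1 : (f (hs i) : ℂ) = (τ 3 : ℂ) := by rw [← hv3 i, ← hv χ3 i, hf]
      have h3 : (f (hs i)) ^ 3 = 1 := by rw [← map_pow, hT.exp _ (hmemT i), map_one]
      rcases Int.eq_one_or_neg_one_of_mul_eq_one' (hb 3).2.2 with ⟨e, -⟩ | ⟨e, -⟩
      · exact Units.ext (by rw [h1, e]; simp)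
      · exfalso
        have := congrArg Units.val h3
        rw [Units.val_pow_eq_pow_val, h1, e] at this
        norm_num at this
    have hgen : zpowers h0 ⊔ zpowers h1 = T := by
      refine Subgroup.eq_of_le_of_card_ge (sup_le (zpowers_le.2 m0) (zpowers_le.2 m1)) ?_
      rw [hT.card]
      have hd9 : Nat.card ↥(zpowers h0 ⊔ zpowers h1) ∣ 3 ^ 2 := by
        have := Subgroup.card_dvd_of_le (sup_le (zpowers_le.2 m0) (zpowers_le.2 m1) : zpowers h0 ⊔ zpowers h1 ≤ T)
        rwa [hT.card] at this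
      obtain ⟨j, hj, hje⟩ := (Nat.dvd_prime_pow Nat.prime_three).1 hd9
      have hlt : Nat.card (zpowers h0) < Nat.card ↥(zpowers h0 ⊔ zpowers h1) := by
        refine lt_of_le_of_ne (Subgroup.card_le_of_le le_sup_left) fun e => h1z ?_
        rw [Subgroup.eq_of_le_of_card_ge le_sup_left e.ge]
        exact le_sup_right (a := zpowers h0) (mem_zpowers h1)
      rw [Nat.card_zpowers, hT.order m0 h0ne, hje] at hlt
      rw [hje]
      interval_cases j <;> simp_all
    rw [← hgen]
    exact sup_le (zpowers_le.2 (hval 0)) (zpowers_le.2 (hval 1))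
  haveI : f.ker.Normal := MonoidHom.normal_ker f
  set K := f.ker with hK
  have hKne : K ≠ ⊤ := by
    intro e
    refine hne3 (Subtype.ext (funext fun g => ?_))
    rw [hf]
    show ((f g : ℂˣ) : ℂ) = (o : X → ℂ) g
    rw [hone, MonoidHom.mem_ker.1 (show g ∈ K from e ▸ mem_top g), Units.val_one]
  have hfrat : normalizer (T : Set X) ⊔ K = ⊤ := by
    obtain ⟨P, rfl⟩ := hT.sylow
    have h := Sylow.normalizer_sup_eq_top (P.subtype hfT)
    rwa [Sylow.coe_subtype, Subgroup.map_subgroupOf_eq_of_le hfT] at h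
  have hnK : n ∉ K := fun hnK => hKne (by
    refine eq_top_iff.2 (hfrat ▸ sup_le (fun k hk => ?_) le_rfl)
    rcases act k hk with e | e
    · exact hfT (self h0 m0 h0ne (mem_centralizer_singleton_iff.2 (mul_inv_eq_iff_eq_mul.1 (e _ m0))))
    · have hc : n⁻¹ * k ∈ T := self h0 m0 h0ne (mem_centralizer_singleton_iff.2 (mul_inv_eq_iff_eq_mul.1 (by
        rw [show n⁻¹ * k * h0 * (n⁻¹ * k)⁻¹ = n⁻¹ * (k * h0 * k⁻¹) * n by group, e _ m0, ← hinv _ m0]; group)))
      have := mul_mem hnK (hfT hc)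
      rwa [mul_inv_cancel_left] at this)
  -- the kernel is the subgroup
  have hT' : Nine (T.subgroupOf K) := by
    refine ⟨by rw [Nat.card_congr (Subgroup.subgroupOfEquivOfLe hfT).toEquiv, hT.card],
      fun x hx y hy => Subtype.ext (hT.comm x hx y hy), fun x hx => Subtype.ext (hT.exp x hx), ?_⟩
    obtain ⟨P, rfl⟩ := hT.sylow
    exact ⟨P.subtype hfT, Sylow.coe_subtype ..⟩
  have htop := eq_top_of_central hT' (fun h hh h1 c hc => self h hh (fun e => h1 (Subtype.ext e))
    (mem_centralizer_singleton_iff.2 (congrArg Subtype.val (mem_centralizer_singleton_iff.1 hc))))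
    (fun k hk => by
      have hk' : (k : X) ∈ normalizer (T : Set X) := by
        refine mem_normalizer_fintype fun x hx => ?_
        exact (mem_normalizer_iff.1 hk ⟨x, hfT hx⟩).1 hx
      rcases act k hk' with e | e
      · exact mem_centralizer_iff.2 fun x hx => Subtype.ext (mul_inv_eq_iff_eq_mul.1 (e x hx)).symm
      · exfalso
        refine hnK ?_
        have hc : n⁻¹ * (k : X) ∈ T := self h0 m0 h0ne (mem_centralizer_singleton_iff.2 (mul_inv_eq_iff_eq_mul.1 (by
          rw [show n⁻¹ * (k : X) * h0 * (n⁻¹ * k)⁻¹ = n⁻¹ * (k * h0 * (k : X)⁻¹) * n by group, e _ m0,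
            ← hinv _ m0]; group)))
        have h5 := mul_mem k.2 (inv_mem (hfT hc))
        rwa [mul_inv_rev, inv_inv, mul_inv_cancel_left] at h5)
  rw [Subgroup.subgroupOf_eq_top] at htop
  rw [le_antisymm hfT htop]
  infer_instance

end

end Cfsg.Agent.U62Three.Rank2
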