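import Mathlib.GroupTheory.Sylow
import Mathlib.GroupTheory.Transfer
import Mathlib.GroupTheory.Subgroup.Simple
import Mathlib.GroupTheory.SpecificGroups.Cyclic
import Mathlib.GroupTheory.Index
import Mathlib.Algebra.Group.Subgroup.Pointwise
import Mathlib.Tactic.Group

/-!
A simple normal subgroup of index three with `p + 1` Sylow `p`-subgroups of order `p`: an element of order three
centralises it, unless the stabiliser of a point is too small.
-/

set_option autoImplicit false

namespace Cfsg.Agent.U62Three.Rank2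

open Subgroup
open scoped Pointwise

variable {Y : Type*} [Group Y] [Finite Y]

/-- Some element of order three outside centralises the simple subgroup. -/
theorem exists_centralising (S : Subgroup Y) [S.Normal] [IsSimpleGroup S] (hS3 : S.index = 3) {p k : ℕ}
    [Fact p.Prime] (hp3 : p ≠ 3) (hn : Nat.card (Sylow p S) = p + 1) (hk : Nat.card S = (p + 1) * k)
    (hP : ∀ P : Sylow p S, Nat.card (P : Subgroup S) = p) (h3 : 3 ∣ 3 * k / Nat.gcd (p - 1) (3 * k)) :
    ∃ y : Y, orderOf y = 3 ∧ ∀ s ∈ S, y * s = s * y := by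
  classical
  haveI : Fact (Nat.Prime 3) := ⟨Nat.prime_three⟩
  have htr : ∀ P Q : Sylow p S, ∃ s : S, MulAut.conj s • P = Q := fun P Q => by
    obtain ⟨s, hs⟩ := MulAction.exists_smul_eq S P Q
    exact ⟨s, hs⟩
  have hst : ∀ (s : S) (P : Sylow p S), MulAut.conj s • P = P ↔ s ∈ normalizer ((P : Subgroup S) : Set S) :=
    fun s P => Sylow.smul_eq_iff_mem_normalizer
  letI act : MulAction Y (Sylow p S) := MulAction.compHom _ (MulAut.conjNormal : Y →* MulAut S)
  have hact : ∀ (s : S) (P : Sylow p S), (s : Y) • P = MulAut.conj s • P := fun s P => by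
    show (MulAut.conjNormal (s : Y) : MulAut S) • P = MulAut.conj s • P
    rw [show (MulAut.conjNormal (s : Y) : MulAut S) = MulAut.conj s from
      MulEquiv.ext fun x => Subtype.ext (by simp)]
  haveI : MulAction.IsPretransitive Y (Sylow p S) := ⟨fun P Q => by
    obtain ⟨s, hs⟩ := htr P Q
    exact ⟨s, by rw [hact, hs]⟩⟩
  obtain ⟨P⟩ : Nonempty (Sylow p S) := inferInstance
  set N := MulAction.stabilizer Y P with hN
  have hcN : Nat.card N = 3 * k := by
    have h1 := N.card_mul_index
    rw [hN, MulAction.index_stabilizer_of_transitive, hn, ← S.card_mul_index, hS3, hk] at h1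
    have h2 : Nat.card N * (p + 1) = 3 * k * (p + 1) := h1.trans (by ring)
    exact Nat.eq_of_mul_eq_mul_right (Nat.succ_pos p) h2
  set P0 := (P : Subgroup S).map S.subtype with hP0
  have hnorm : N ≤ normalizer (P0 : Set Y) := by
    intro y hy
    have hy' : (MulAut.conjNormal y : MulAut S) • (P : Subgroup S) = (P : Subgroup S) :=
      congrArg Sylow.toSubgroup (MulAction.mem_stabilizer_iff.1 hy)
    refine mem_normalizer_fintype ?_
    rintro _ ⟨u, hu, rfl⟩
    refine ⟨(MulAut.conjNormal y : MulAut S) u, ?_, MulAut.conjNormal_apply y u⟩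
    rw [← hy']
    exact smul_mem_pointwise_smul u _ _ hu
  let f : N →* MulAut P0 := P0.normalizerMonoidHom.comp (Subgroup.inclusion hnorm)
  haveI : IsCyclic P0 := isCyclic_of_prime_card (p := p)
    (by rw [hP0, Nat.card_congr (equivMapOfInjective _ _ S.subtype_injective).toEquiv.symm]; exact hP P)
  have hcA : Nat.card (MulAut P0) = p - 1 := by
    rw [IsCyclic.card_mulAut, hP0, Nat.card_congr (equivMapOfInjective _ _ S.subtype_injective).toEquiv.symm, hP,
      Nat.totient_prime Fact.out]
  have hker : 3 ∣ Nat.card f.ker := by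
    have h1 := f.ker.card_mul_index
    rw [Subgroup.index_ker, hcN] at h1
    have hd : Nat.card f.range ∣ Nat.gcd (p - 1) (3 * k) :=
      Nat.dvd_gcd (hcA ▸ f.range.card_subgroup_dvd_card) ⟨Nat.card f.ker, by rw [← h1]; ring⟩
    have hg : Nat.gcd (p - 1) (3 * k) ∣ 3 * k := Nat.gcd_dvd_right _ _
    refine h3.trans ?_
    obtain ⟨a, ha⟩ := hd
    obtain ⟨b, hb⟩ := hg
    have hpos : 0 < Nat.gcd (p - 1) (3 * k) := by
      refine Nat.gcd_pos_of_pos_left _ ?_
      have := (Fact.out : p.Prime).two_le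
      omega
    rw [Nat.div_eq_of_eq_mul_right hpos hb]
    have h2 : Nat.card f.range * Nat.card f.ker = Nat.card f.range * (a * b) := by
      rw [mul_comm _ (Nat.card f.ker), h1, hb, ha]; ring
    rw [Nat.eq_of_mul_eq_mul_left Nat.card_pos h2]
    exact dvd_mul_left b a
  obtain ⟨⟨⟨y, hyN⟩, hyk⟩, hy⟩ := exists_prime_orderOf_dvd_card' (G := f.ker) 3 hker
  rw [← Subgroup.orderOf_coe, ← Subgroup.orderOf_coe] at hy
  change orderOf y = 3 at hy
  have hcomm : ∀ u : S, u ∈ (P : Subgroup S) → y * u = u * y := fun u hu => by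
    have h1 := congrArg (fun g : MulAut P0 => ((g ⟨u, ⟨u, hu, rfl⟩⟩ : P0) : Y)) (MonoidHom.mem_ker.1 hyk)
    exact mul_inv_eq_iff_eq_mul.1 (show y * u * y⁻¹ = u from h1)
  have hyP : y • P = P := hyN
  have hall : ∀ Q : Sylow p S, y • Q = Q := by
    intro Q
    by_cases hQ : Q = P
    · rw [hQ, hyP]
    let F : ↥(P : Subgroup S) → {R : Sylow p S // R ≠ P} := fun u => ⟨((u : S) : Y) • Q, fun e => hQ (by
      have h1 : MulAut.conj (u : S) • P = P := (hst _ P).2 (le_normalizer u.2)
      rw [hact] at e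
      exact (MulAction.injective (MulAut.conj (u : S))) (e.trans h1.symm))⟩
    have hinj : Function.Injective F := fun u v huv => by
      have h1 : MulAut.conj (v⁻¹ * u : (P : Subgroup S)).1 • Q = Q := by
        have e := congrArg Subtype.val huv
        simp only [F, hact] at e
        rw [Subgroup.coe_mul, Subgroup.coe_inv, map_mul, map_inv, mul_smul, e, inv_smul_smul]
      have h2 : (v⁻¹ * u : (P : Subgroup S)).1 ∈ (P : Subgroup S) ⊓ (Q : Subgroup S) := by
        rw [← P.isPGroup'.inf_normalizer_sylow Q]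
        exact ⟨(v⁻¹ * u).2, (hst _ Q).1 h1⟩
      have h3 : (P : Subgroup S) ⊓ (Q : Subgroup S) = ⊥ := by
        rcases (Nat.dvd_prime Fact.out).1 (hP P ▸ Subgroup.card_dvd_of_le (inf_le_left (b := (Q : Subgroup S))))
          with e | e
        · exact Subgroup.card_eq_one.1 e
        · have eP : (P : Subgroup S) ⊓ (Q : Subgroup S) = P :=
            Subgroup.eq_of_le_of_card_ge inf_le_left (le_of_eq (by rw [e, hP]))
          exact absurd (Sylow.ext (Subgroup.eq_of_le_of_card_ge (inf_eq_left.1 eP) (le_of_eq (by rw [hP, hP])))).symm hQ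
      rw [h3, Subgroup.mem_bot] at h2
      exact (inv_mul_eq_one.1 (Subtype.ext h2)).symm
    have hcard : Nat.card {R : Sylow p S // R ≠ P} ≤ Nat.card (P : Subgroup S) := by
      haveI := Fintype.ofFinite (Sylow p S)
      rw [hP, Nat.card_eq_fintype_card, Fintype.card_subtype_compl, Fintype.card_subtype_eq,
        ← Nat.card_eq_fintype_card, hn]
      omega
    have hsur := (hinj.bijective_of_nat_card_le hcard).2
    have hne : y • Q ≠ P := fun e => hQ (MulAction.injective y (e.trans hyP.symm))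
    obtain ⟨u, hu⟩ := hsur ⟨_, hne⟩
    have hu' : ((u : S) : Y) • Q = y • Q := congrArg Subtype.val hu
    have hc : Commute y ((u : S) : Y) := hcomm _ u.2
    have hswap : ∀ R : Sylow p S, y • ((u : S) : Y) • R = ((u : S) : Y) • y • R := fun R => by
      rw [← mul_smul, ← mul_smul, hc.eq]
    have hpow : (((u : S) : Y) ^ 3) • Q = (y ^ 3) • Q := by
      simp only [pow_three, mul_smul]
      rw [← hu', hswap, hswap, ← hu', hswap, ← hu']
    rw [← hy, pow_orderOf_eq_one, one_smul, hy] at hpow
    have hu3 : u ^ 3 = 1 := hinj (Subtype.ext (by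
      show (((u ^ 3 : (P : Subgroup S)) : S) : Y) • Q = (((1 : (P : Subgroup S)) : S) : Y) • Q
      simpa using hpow))
    have hu1 : u = 1 := by
      have h1 : orderOf u ∣ 3 := orderOf_dvd_of_pow_eq_one hu3
      have h2 : orderOf u ∣ p := (orderOf_dvd_natCard u).trans (hP P).dvd
      exact orderOf_eq_one_iff.1 (Nat.eq_one_of_dvd_coprimes
        ((Nat.coprime_primes Nat.prime_three Fact.out).2 (Ne.symm hp3)) h1 h2)
    rw [← hu', hu1]
    simp
  refine ⟨y, hy, fun s hs => ?_⟩
  set K := (MulAction.toPermHom Y (Sylow p S)).ker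
  have hyK : y ∈ K := MonoidHom.mem_ker.2 (Equiv.ext hall)
  haveI : (K.subgroupOf S).Normal := Subgroup.normal_subgroupOf
  rcases (inferInstance : (K.subgroupOf S).Normal).eq_bot_or_eq_top with h0 | h0
  · have hm : s * y * s⁻¹ * y⁻¹ ∈ S := by
      rw [show s * y * s⁻¹ * y⁻¹ = s * (y * s⁻¹ * y⁻¹) by group]
      exact mul_mem hs ((inferInstance : S.Normal).conj_mem _ (inv_mem hs) y)
    have h1 : (⟨_, hm⟩ : S) ∈ K.subgroupOf S :=
      mul_mem ((inferInstance : K.Normal).conj_mem y hyK s) (inv_mem hyK)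
    rw [h0, Subgroup.mem_bot, Subtype.ext_iff] at h1
    exact (mul_inv_eq_iff_eq_mul.1 (mul_inv_eq_one.1 h1)).symm
  · exfalso
    obtain ⟨Q, hQ⟩ : ∃ Q : Sylow p S, Q ≠ P := by
      by_contra hh
      push Not at hh
      haveI : Subsingleton (Sylow p S) := ⟨fun a b => (hh a).trans (hh b).symm⟩
      rw [Nat.card_of_subsingleton P] at hn
      have := (Fact.out : p.Prime).two_le
      omega
    obtain ⟨u, hu⟩ := htr P Q
    have h1 : ((u : Y)) • P = P := by
      have hm : (u : Y) ∈ K := by
        have := h0 ▸ Subgroup.mem_top u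
        exact this
      exact congrArg (fun e : Equiv.Perm (Sylow p S) => e P) (MonoidHom.mem_ker.1 hm)
    rw [hact, hu] at h1
    exact hQ h1

end Cfsg.Agent.U62Three.Rank2
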