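import Cfsg.Agent.Lib.U62Three.Rank2.Basic
import Cfsg.Agent.Lib.U62Three.Rank2.Simple
import Cfsg.Agent.Lib.SelfThree.Main
import Cfsg.Agent.Lib.SmallCent.Main
import Cfsg.Agent.Lib.GridBlock.OfReps

/-!
A Sylow subgroup of order nine whose normaliser induces one reflection, the moved element being
self-centralising in it.
-/

set_option autoImplicit false
set_option linter.style.haveILetI false

namespace Cfsg.Agent.U62Three.Rank2

open Subgroup

universe u

variable {X : Type u} [Group X] [Finite X]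

/-- The largest normal subgroup of order prime to three of a normal subgroup is normal. -/
theorem map_normal (M : Subgroup X) [M.Normal] (N : Subgroup M) [N.Normal] (cop : (Nat.card N).Coprime 3)
    (top : ∀ L : Subgroup M, L.Normal → (Nat.card L).Coprime 3 → L ≤ N) : (N.map M.subtype).Normal := by
  refine ⟨?_⟩
  rintro _ ⟨a, ha, rfl⟩ g
  set α : MulAut M := MulAut.conjNormal g
  have hL : (N.map α.toMonoidHom).Normal := Subgroup.Normal.map inferInstance _ α.surjective
  have hc : (Nat.card (N.map α.toMonoidHom)).Coprime 3 := by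
    rwa [Subgroup.card_map_of_injective (f := α.toMonoidHom) α.injective]
  exact ⟨α a, top _ hL hc (Subgroup.mem_map_of_mem _ ha), MulAut.conjNormal_apply g a⟩

theorem perm3_norm : ∀ b : Equiv.Perm (Fin 3), b * b * b = 1 → b ≠ 1 → ∀ q : Equiv.Perm (Fin 3), q * q * q = 1 →
    q = 1 ∨ q = b ∨ q = b * b := by decide +kernel

/-- In a group of order three or the symmetric group: the elements of order three and the normal subgroups of
order prime to three. -/
theorem tri_quotient {A : Type*} [Group A] [Finite A]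
    (h : Nat.card A = 3 ∨ Nonempty (A ≃* Equiv.Perm (Fin 3))) {b : A} (hb : orderOf b = 3) :
    (∀ q : A, q ^ 3 = 1 → q ∈ zpowers b) ∧
      ∀ L : Subgroup A, L.Normal → (Nat.card L).Coprime 3 → L = ⊥ := by
  rcases h with h | ⟨⟨e⟩⟩
  · have htop : zpowers b = ⊤ := by
      refine Subgroup.eq_top_of_card_eq _ ?_
      rw [Nat.card_zpowers, hb, h]
    refine ⟨fun q _ => htop ▸ mem_top q, fun L _ hL => Subgroup.card_eq_one.1 ?_⟩
    exact Nat.Coprime.eq_one_of_dvd hL (h ▸ L.card_subgroup_dvd_card)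
  · have h3 : ∀ x : A, x ^ 3 = 1 → e x * e x * e x = 1 := fun x hx => by
      rw [← map_mul, ← map_mul, ← pow_three', hx, map_one]
    have hb3 : b ^ 3 = 1 := hb ▸ pow_orderOf_eq_one b
    have hb1 : e b ≠ 1 := fun e1 => by
      rw [e.map_eq_one_iff] at e1
      rw [e1, orderOf_one] at hb
      omega
    refine ⟨fun q hq => ?_, fun L hL hc => ?_⟩
    · rcases perm3_norm (e b) (h3 b hb3) hb1 (e q) (h3 q hq) with e1 | e1 | e1
      · rw [e.map_eq_one_iff] at e1; rw [e1]; exact one_mem _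
      · rw [e.injective e1]; exact mem_zpowers b
      · rw [← map_mul] at e1; rw [e.injective e1]; exact mul_mem (mem_zpowers b) (mem_zpowers b)
    · rw [eq_bot_iff]
      intro q hq
      rw [Subgroup.mem_bot]
      have h2 : q * q = 1 := by
        have hd : Nat.card L ∣ 2 := by
          have h6 : Nat.card A = 2 * 3 := by
            rw [Nat.card_congr e.toEquiv, Nat.card_perm, Nat.card_fin]; decide
          exact hc.dvd_of_dvd_mul_right (h6 ▸ L.card_subgroup_dvd_card)
        rw [← pow_two, ← orderOf_dvd_iff_pow_eq_one]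
        exact (Subgroup.orderOf_dvd_natCard L hq).trans hd
      by_contra hq1
      obtain ⟨hf1, -⟩ := SelfThree.perm3_facts (e q) (e b) hb1 (by rw [← map_pow, hb3, map_one])
      obtain ⟨hne, hcube⟩ := hf1 (fun e1 => hq1 (e.map_eq_one_iff.1 e1)) (by rw [← map_mul, h2, map_one])
      have hmem : q * (b * q * b⁻¹) ∈ L := mul_mem hq (hL.conj_mem q hq b)
      refine hne ?_
      have ho : orderOf (q * (b * q * b⁻¹)) ∣ 3 := by
        refine orderOf_dvd_of_pow_eq_one (e.injective ?_)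
        rw [map_pow, map_mul, map_mul, map_mul, map_inv, hcube, map_one]
      have h1 := orderOf_eq_one_iff.1 (Nat.Coprime.eq_one_of_dvd
        (Nat.Coprime.coprime_dvd_left (Subgroup.orderOf_dvd_natCard L hmem) hc) ho)
      rw [← map_inv, ← map_mul, ← map_mul, ← map_mul, h1, map_one]

/-- The two simple quotients: their Sylow subgroups for the largest prime. -/
theorem sylow_facts {S : Type*} [Group S] [Finite S] [IsSimpleGroup S] {p : ℕ} [Fact p.Prime]
    (hpS : p ∣ Nat.card S) (hp2 : ¬ p ^ 2 ∣ Nat.card S) (hne : Nat.card S ≠ p)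
    (hdiv : ∀ d ∈ (Nat.card S).divisors, d % p = 1 → d = 1 ∨ d = p + 1) :
    Nat.card (Sylow p S) = p + 1 ∧ ∀ P : Sylow p S, Nat.card (P : Subgroup S) = p := by
  have hP : ∀ P : Sylow p S, Nat.card (P : Subgroup S) = p := by
    intro P
    obtain ⟨e, he⟩ := P.isPGroup'.exists_card_eq
    rcases Nat.lt_or_ge e 2 with h2 | h2
    · interval_cases e
      · exact absurd (he ▸ P.dvd_card_of_dvd_card hpS : p ∣ p ^ 0) (by
          simpa using (Fact.out : p.Prime).ne_one)
      · rw [he, pow_one]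
    · exact absurd ((pow_dvd_pow p h2).trans (he ▸ (P : Subgroup S).card_subgroup_dvd_card)) hp2
  refine ⟨?_, hP⟩
  obtain ⟨P⟩ : Nonempty (Sylow p S) := inferInstance
  have hd : Nat.card (Sylow p S) ∣ Nat.card S := P.card_eq_index_normalizer ▸ Subgroup.index_dvd_card _
  have hmod : Nat.card (Sylow p S) % p = 1 := by
    have := card_sylow_modEq_one p S
    rwa [Nat.ModEq, Nat.mod_eq_of_lt (Fact.out : p.Prime).one_lt] at this
  refine (hdiv _ (Nat.mem_divisors.2 ⟨hd, Nat.card_pos.ne'⟩) hmod).resolve_left fun h1 => ?_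
  rw [P.card_eq_index_normalizer, Subgroup.index_eq_one] at h1
  change normalizer ((P : Subgroup S) : Set S) = ⊤ at h1
  rw [Subgroup.normalizer_eq_top_iff] at h1
  rcases h1.eq_bot_or_eq_top with e | e
  · have := hP P
    rw [e, Subgroup.card_bot] at this
    exact (Fact.out : p.Prime).ne_one this.symm
  · have := hP P
    rw [e, Subgroup.card_top] at this
    exact hne this

theorem card_psl_seven : Nat.card (Matrix.ProjectiveSpecialLinearGroup (Fin 2) (ZMod 7)) = 168 := by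
  haveI : Fact (Nat.Prime 7) := ⟨by norm_num⟩
  have h := SmallCent.card_psl (ZMod 7)
  rw [ZMod.card] at h
  norm_num at h
  rw [Nat.card_eq_fintype_card]
  omega

section

variable {T : Subgroup X} (hT : Nine T)
include hT

/-- No simple group is involved above the core. -/
theorem no_simple {h0 : X} (m0 : h0 ∈ T) (h0ne : h0 ≠ 1) (M : Subgroup X) [M.Normal] (hM3 : M.index = 3)
    (m0M : h0 ∈ M) (hTM : ∀ x ∈ T, x ∈ M → x ∈ zpowers h0) (N : Subgroup M) [N.Normal]
    (cop : (Nat.card N).Coprime 3) (hNn : (N.map M.subtype).Normal) (hs : IsSimpleGroup (M ⧸ N)) {p k : ℕ}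
    [Fact p.Prime] (hp3 : p ≠ 3) (hpS : p ∣ Nat.card (M ⧸ N)) (hp2 : ¬ p ^ 2 ∣ Nat.card (M ⧸ N))
    (hne : Nat.card (M ⧸ N) ≠ p) (hdiv : ∀ d ∈ (Nat.card (M ⧸ N)).divisors, d % p = 1 → d = 1 ∨ d = p + 1)
    (hk : Nat.card (M ⧸ N) = (p + 1) * k) (hk3 : 4 ≤ Nat.card (M ⧸ N))
    (h3 : 3 ∣ 3 * k / Nat.gcd (p - 1) (3 * k))
    (cores : ∀ h ∈ T, h ∉ zpowers h0 → ∃ R, Cored T h R) : False := by
  classical
  haveI : Fact (Nat.Prime 3) := ⟨Nat.prime_three⟩
  set O := N.map M.subtype with hO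
  haveI := hNn
  set π := QuotientGroup.mk' O with hπ
  set S := M.map π with hS
  haveI hSn : S.Normal := Subgroup.Normal.map inferInstance _ (QuotientGroup.mk'_surjective O)
  let f : M →* S := π.subgroupMap M
  have hf : Function.Surjective f := π.subgroupMap_surjective M
  have hker : f.ker = N := by
    ext x
    refine ⟨fun hx => ?_, fun hx => ?_⟩
    · have h1 : π (x : X) = 1 := congrArg Subtype.val (MonoidHom.mem_ker.1 hx)
      obtain ⟨y, hy, e⟩ := (QuotientGroup.eq_one_iff _).1 h1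
      exact Subtype.ext e ▸ hy
    · exact MonoidHom.mem_ker.2 (Subtype.ext ((QuotientGroup.eq_one_iff _).2 ⟨x, hx, rfl⟩))
  let e : M ⧸ N ≃* S :=
    (QuotientGroup.quotientMulEquivOfEq hker.symm).trans (QuotientGroup.quotientKerEquivOfSurjective f hf)
  haveI := hs
  haveI : IsSimpleGroup S := e.symm.isSimpleGroup
  have hSi : S.index = 3 := by
    rw [hS, Subgroup.index_map_eq _ (QuotientGroup.mk'_surjective O)
      (by rw [QuotientGroup.ker_mk']; exact Subgroup.map_subtype_le N), hM3]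
  have hcS : Nat.card S = Nat.card (M ⧸ N) := Nat.card_congr e.symm.toEquiv
  obtain ⟨hn, hP⟩ := sylow_facts (S := S) (p := p) (by rwa [hcS]) (by rwa [hcS]) (by rwa [hcS]) (by rwa [hcS])
  obtain ⟨y, hy, hyS⟩ := exists_centralising S hSi hp3 hn (hcS.trans hk) hP h3
  -- a conjugate lies in the image of `T`
  obtain ⟨P3, hP3⟩ := hT.sylow
  obtain ⟨U, hU⟩ := (IsPGroup.of_card (p := 3) (n := 1) (by rw [Nat.card_zpowers, hy, pow_one]) :
    IsPGroup 3 (zpowers y)).exists_le_sylow
  obtain ⟨g, hg⟩ := MulAction.exists_smul_eq (X ⧸ O) U (P3.mapSurjective (QuotientGroup.mk'_surjective O))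
  have hy' : g * y * g⁻¹ ∈ T.map π := by
    rw [← hP3]
    have h1 : MulAut.conj g • y ∈ ((g • U : Sylow 3 (X ⧸ O)) : Subgroup (X ⧸ O)) :=
      Subgroup.smul_mem_pointwise_smul _ _ _ (hU (mem_zpowers y))
    rw [hg] at h1
    exact h1
  obtain ⟨h, hh, hhy⟩ := hy'
  have hcS' : ∀ s ∈ S, π h * s = s * π h := fun s hs => by
    rw [hhy]
    have h1 := hyS (g⁻¹ * s * g) (by simpa using hSn.conj_mem s hs g⁻¹)
    calc g * y * g⁻¹ * s = g * (y * (g⁻¹ * s * g)) * g⁻¹ := by group
      _ = g * ((g⁻¹ * s * g) * y) * g⁻¹ := by rw [h1]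
      _ = s * (g * y * g⁻¹) := by group
  have hh1 : π h ≠ 1 := fun e1 => by
    rw [hhy, conj_eq_one_iff] at e1
    rw [e1, orderOf_one] at hy
    omega
  -- the centre of the quotient is trivial
  have hcentre : ∀ z ∈ S, (∀ s ∈ S, z * s = s * z) → z = 1 := by
    intro z hz hzc
    have hzm : (⟨z, hz⟩ : S) ∈ center S := mem_center_iff.2 fun s => Subtype.ext (hzc s s.2).symm
    rcases (inferInstance : (center S).Normal).eq_bot_or_eq_top with e0 | e0
    · rw [e0, mem_bot] at hzm; exact congrArg Subtype.val hzm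
    · exfalso
      obtain ⟨P⟩ : Nonempty (Sylow p S) := inferInstance
      haveI : (P : Subgroup S).Normal := ⟨fun a ha b => by
        rwa [mem_center_iff.1 (e0 ▸ mem_top a : a ∈ center S) b, mul_inv_cancel_right]⟩
      have := Sylow.unique_of_normal P inferInstance
      have h1 : Nat.card (Sylow p S) = 1 := Nat.card_eq_one_iff_unique.2
        ⟨⟨fun a b => by rw [this.uniq a, this.uniq b]⟩, inferInstance⟩
      rw [hn] at h1
      have := (Fact.out : p.Prime).two_le
      omega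
  have hhz : h ∉ zpowers h0 := fun hz => hh1 (hcentre _ (by
    obtain ⟨i, rfl⟩ := mem_zpowers_iff.1 hz
    exact ⟨_, zpow_mem m0M i, rfl⟩) hcS')
  obtain ⟨R, hR⟩ := cores h hh hhz
  have hcopO : ¬ 3 ∣ Nat.card O := fun hd => by
    rw [hO, Subgroup.card_map_of_injective M.subtype_injective] at hd
    exact Nat.prime_three.not_dvd_one (cop.symm.dvd_of_dvd_mul_right (by simpa using hd) : 3 ∣ 1)
  have hcov : ∀ m ∈ M, ∃ c ∈ centralizer ({h} : Set X), c ∈ M ∧ π c = π m := by
    intro m hm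
    have hq : m * h * m⁻¹ * h⁻¹ ∈ O := by
      refine (QuotientGroup.eq_one_iff _).1 ?_
      show π (m * h * m⁻¹ * h⁻¹) = 1
      rw [map_mul, map_mul, map_mul, map_inv, map_inv, ← hcS' (π m) ⟨m, hm, rfl⟩]
      group
    obtain ⟨n, hn', hnh⟩ := GridBlock.exists_conj_of_mul hcopO (fun x hx => hNn.conj_mem x hx h) (hT.exp h hh) hq
      (by rw [show m * h * m⁻¹ * h⁻¹ * h = m * h * m⁻¹ by group, conj_pow, hT.exp h hh]; group)
    refine ⟨n⁻¹ * m, mem_centralizer_singleton_iff.2 ?_, mul_mem (inv_mem (map_subtype_le N hn')) hm, ?_⟩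
    · calc n⁻¹ * m * h = n⁻¹ * (m * h * m⁻¹ * h⁻¹ * h) * m := by group
        _ = n⁻¹ * (n * h * n⁻¹) * m := by rw [hnh]
        _ = h * (n⁻¹ * m) := by group
    · rw [map_mul, show π n⁻¹ = 1 from (QuotientGroup.eq_one_iff _).2 (inv_mem hn'), one_mul]
  have hRM : R ≤ M := by
    intro r hr
    have h1 : r ^ 3 ∈ M := hM3 ▸ M.pow_index_mem r
    obtain ⟨j, hj⟩ := exists_pow_eq_self_of_coprime (x := r) (n := 3)
      (Nat.Coprime.coprime_dvd_left (Subgroup.orderOf_dvd_natCard R hr) hR.cop).symm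
    exact hj ▸ pow_mem h1 j
  have hRS : R.map π ≤ S := Subgroup.map_mono hRM
  haveI hRn : ((R.map π).subgroupOf S).Normal := ⟨fun z hz s => by
    obtain ⟨r, hr, hrz⟩ := hz
    obtain ⟨m, hm, hms⟩ := s.2
    obtain ⟨c, hc, -, hcm⟩ := hcov m hm
    refine ⟨c * r * c⁻¹, hR.normal c hc r hr, ?_⟩
    show π (c * r * c⁻¹) = (s : X ⧸ O) * (z : X ⧸ O) * (s : X ⧸ O)⁻¹
    rw [map_mul, map_mul, map_inv, hcm, hms, hrz]
    rfl⟩
  have hRbot : (R.map π).subgroupOf S = ⊥ := by
    refine hRn.eq_bot_or_eq_top.resolve_right fun e0 => ?_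
    have h1 : Nat.card S ∣ Nat.card R := by
      rw [← Subgroup.card_top (G := S), ← e0, Nat.card_congr (Subgroup.subgroupOfEquivOfLe hRS).toEquiv]
      exact R.card_map_dvd π
    have h2 : 3 ∣ Nat.card S := by
      have hm : π h0 ∈ S := ⟨h0, m0M, rfl⟩
      have h3' : π h0 ≠ 1 := fun e1 => h0ne (orderOf_eq_one_iff.1 (Nat.eq_one_of_dvd_coprimes
        ((Nat.prime_three.coprime_iff_not_dvd).2 hcopO).symm
        (Subgroup.orderOf_dvd_natCard O ((QuotientGroup.eq_one_iff _).1 e1))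
        (orderOf_dvd_of_pow_eq_one (hT.exp h0 m0))))
      have h4 : orderOf (π h0) = 3 := orderOf_eq_prime (by rw [← map_pow, hT.exp h0 m0, map_one]) h3'
      exact h4 ▸ Subgroup.orderOf_dvd_natCard S hm
    exact Nat.prime_three.not_dvd_one (hR.cop.symm.dvd_of_dvd_mul_right
      (by simpa using h2.trans h1) : 3 ∣ 1)
  -- so the image of `h0` is normal
  have hnorm : ∀ s ∈ S, s * π h0 * s⁻¹ ∈ zpowers (π h0) := by
    rintro _ ⟨m, hm, rfl⟩
    obtain ⟨c, hc, hcM, hcm⟩ := hcov m hm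
    obtain ⟨r, hr, k', hk', rfl⟩ := hR.dec c hc
    have hr1 : π r = 1 := by
      have hmem : (⟨π r, hRS ⟨r, hr, rfl⟩⟩ : S) ∈ (R.map π).subgroupOf S := ⟨r, hr, rfl⟩
      rw [hRbot, Subgroup.mem_bot] at hmem
      exact congrArg Subtype.val hmem
    have hkM : k' ∈ M := by
      have := mul_mem (inv_mem (hRM hr)) hcM
      rwa [inv_mul_cancel_left] at this
    rw [← hcm, map_mul, hr1, one_mul, ← map_inv, ← map_mul, ← map_mul]
    obtain ⟨i, hi⟩ := mem_zpowers_iff.1 (hTM _ ((mem_normalizer_iff.1 hk' h0).1 m0)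
      ((inferInstance : M.Normal).conj_mem h0 m0M k'))
    rw [← hi, map_zpow]
    exact zpow_mem (mem_zpowers _) i
  have hm0 : π h0 ∈ S := ⟨h0, m0M, rfl⟩
  haveI hzn : ((zpowers (π h0)).subgroupOf S).Normal := ⟨fun z hz s => by
    obtain ⟨i, hi⟩ := mem_zpowers_iff.1 (show (z : X ⧸ O) ∈ zpowers (π h0) from hz)
    show (s : X ⧸ O) * (z : X ⧸ O) * (s : X ⧸ O)⁻¹ ∈ zpowers (π h0)
    rw [← hi, ← conj_zpow]
    exact zpow_mem (hnorm s s.2) i⟩
  have h3' : π h0 ≠ 1 := fun e1 => h0ne (orderOf_eq_one_iff.1 (Nat.eq_one_of_dvd_coprimes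
    ((Nat.prime_three.coprime_iff_not_dvd).2 hcopO).symm
    (Subgroup.orderOf_dvd_natCard O ((QuotientGroup.eq_one_iff _).1 e1))
    (orderOf_dvd_of_pow_eq_one (hT.exp h0 m0))))
  rcases hzn.eq_bot_or_eq_top with e0 | e0
  · have hmem : (⟨π h0, hm0⟩ : S) ∈ (zpowers (π h0)).subgroupOf S := mem_zpowers (π h0)
    rw [e0, Subgroup.mem_bot] at hmem
    exact h3' (congrArg Subtype.val hmem)
  · have h1 : Nat.card S ∣ Nat.card (zpowers (π h0)) := by
      rw [← Subgroup.card_top (G := S), ← e0,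
        Nat.card_congr (Subgroup.subgroupOfEquivOfLe (zpowers_le.2 hm0)).toEquiv]
    rw [Nat.card_zpowers, orderOf_eq_prime (by rw [← map_pow, hT.exp h0 m0, map_one]) h3'] at h1
    have := Nat.le_of_dvd (by norm_num) h1
    omega

/-- **(B)** One reflection, the moved element self-centralising. -/
theorem split_reflection {h0 h1 s : X} (m0 : h0 ∈ T) (m1 : h1 ∈ T) (gen : zpowers h0 ⊔ zpowers h1 = T)
    (s0 : s * h0 * s⁻¹ = h0⁻¹) (s1 : s * h1 * s⁻¹ = h1)
    (act : ∀ n ∈ normalizer (T : Set X), (∀ x ∈ T, n * x * n⁻¹ = x) ∨ ∀ x ∈ T, n * x * n⁻¹ = s * x * s⁻¹)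
    (self : centralizer ({h0} : Set X) ≤ T)
    (cores : ∀ h ∈ T, h ∉ zpowers h0 → ∃ R, Cored T h R) : Splits T := by
  classical
  haveI : Fact (Nat.Prime 3) := ⟨Nat.prime_three⟩
  have hcomm : Commute h0 h1 := hT.comm _ m0 _ m1
  have hnot : h1 ∉ zpowers h0 := fun hc => by
    have hle : T ≤ zpowers h0 := gen ▸ sup_le le_rfl (zpowers_le.2 hc)
    have h9 := Subgroup.card_dvd_of_le hle
    rw [hT.card, Nat.card_zpowers] at h9
    have h3 := orderOf_dvd_of_pow_eq_one (hT.exp h0 m0)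
    have := Nat.le_of_dvd (by norm_num) (h9.trans h3)
    omega
  have h0ne : h0 ≠ 1 := fun e0 => by
    have hle : T ≤ zpowers h1 := gen ▸ sup_le (zpowers_le.2 (e0 ▸ one_mem _)) le_rfl
    have h9 := Subgroup.card_dvd_of_le hle
    rw [hT.card, Nat.card_zpowers] at h9
    have h3 := orderOf_dvd_of_pow_eq_one (hT.exp h1 m1)
    have := Nat.le_of_dvd (by norm_num) (h9.trans h3)
    omega
  -- the transfer
  letI : CommGroup T :=
    { (inferInstance : Group T) with mul_comm := fun a b => Subtype.ext (hT.comm a a.2 b b.2) }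
  let V : X →* T := MonoidHom.transfer (MonoidHom.id T)
  have key : ∀ (k : ℕ) (g₀ : X), g₀⁻¹ * h1 ^ k * g₀ ∈ T → g₀⁻¹ * h1 ^ k * g₀ = h1 ^ k := by
    intro k g₀ hmem
    obtain ⟨n, hn, hne⟩ := hT.fusion (pow_mem m1 k) hmem (isConj_iff.2 ⟨g₀⁻¹, by group⟩)
    rw [← hne, ← conj_pow]
    rcases act n hn with e | e
    · rw [e h1 m1]
    · rw [e h1 m1, s1]
  have hV1 : ((V h1 : T) : X) = h1 ^ T.index :=
    congrArg Subtype.val (MonoidHom.transfer_eq_pow (MonoidHom.id T) h1 key)
  have hV0 : V h0 = 1 := by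
    have h2 : V h0 = (V h0)⁻¹ := by
      rw [← map_inv, ← s0, map_mul, map_mul, map_inv, mul_comm (V s), mul_inv_cancel_right]
    have h2' : (V h0) ^ 2 = 1 := by rw [pow_two]; nth_rewrite 2 [h2]; exact mul_inv_cancel _
    have h3 : (V h0) ^ 3 = 1 := by rw [← map_pow, hT.exp h0 m0, map_one]
    rw [pow_succ, h2', one_mul] at h3
    exact h3
  let q := QuotientGroup.mk' (zpowers (⟨h0, m0⟩ : T))
  let φ := q.comp V
  set M := φ.ker with hM
  haveI : M.Normal := MonoidHom.normal_ker φ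
  have m0M : h0 ∈ M := MonoidHom.mem_ker.2 (by show q (V h0) = 1; rw [hV0, map_one])
  have hm1 : h1 ∉ M := by
    intro hc
    obtain ⟨i, hi⟩ := mem_zpowers_iff.1 ((QuotientGroup.eq_one_iff (V h1)).1 (MonoidHom.mem_ker.1 hc))
    have hi' : h0 ^ i = h1 ^ T.index := by rw [← hV1, ← hi]; simp
    obtain ⟨j, hj⟩ := exists_pow_eq_self_of_coprime (x := h1) (n := T.index)
      (Nat.Coprime.coprime_dvd_right (orderOf_dvd_of_pow_eq_one (hT.exp h1 m1))
        ((Nat.prime_three.coprime_iff_not_dvd).2 hT.not_dvd_index).symm)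
    refine hnot ?_
    rw [← hj, ← hi']
    exact pow_mem (zpow_mem (mem_zpowers h0) i) j
  have hcq : Nat.card (T ⧸ zpowers (⟨h0, m0⟩ : T)) = 3 := by
    have h := (zpowers (⟨h0, m0⟩ : T)).card_eq_card_quotient_mul_card_subgroup
    rw [hT.card, Nat.card_zpowers, Subgroup.orderOf_mk, hT.order m0 h0ne] at h
    omega
  have hM3 : M.index = 3 := by
    rw [hM, Subgroup.index_ker]
    refine ((Nat.dvd_prime Nat.prime_three).1 (hcq ▸ φ.range.card_subgroup_dvd_card)).resolve_left fun h1' => hm1 ?_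
    exact MonoidHom.mem_ker.2 (Subgroup.mem_bot.1 (Subgroup.card_eq_one.1 h1' ▸ (⟨h1, rfl⟩ : φ h1 ∈ φ.range)))
  have hTM : ∀ x ∈ T, x ∈ M → x ∈ zpowers h0 := by
    intro x hx hxM
    obtain ⟨i, j, rfl⟩ := pair_form hcomm (gen ▸ hx)
    have hjM : h1 ^ j ∈ M := by
      have := mul_mem (inv_mem (zpow_mem m0M i)) hxM
      rwa [inv_mul_cancel_left] at this
    have hj : h1 ^ j = 1 := by
      by_contra hne
      have ho : orderOf (h1 ^ j) = 3 := hT.order (zpow_mem m1 j) hne
      have heq : zpowers (h1 ^ j) = zpowers h1 := Subgroup.eq_of_le_of_card_ge (zpowers_le.2 (zpow_mem (mem_zpowers h1) j))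
        (by rw [Nat.card_zpowers, Nat.card_zpowers, ho]
            exact Nat.le_of_dvd (by norm_num) (orderOf_dvd_of_pow_eq_one (hT.exp h1 m1)))
      exact hm1 ((zpowers_le.2 hjM) (heq ▸ mem_zpowers h1))
    rw [hj, mul_one]
    exact zpow_mem (mem_zpowers h0) i
  -- the subgroup of index three
  set x : M := ⟨h0, m0M⟩ with hxdef
  have hx : orderOf x = 3 := by rw [← Subgroup.orderOf_coe, hxdef]; exact hT.order m0 h0ne
  have hCx : centralizer ({x} : Set M) = zpowers x := by
    refine le_antisymm (fun c hc => ?_) (zpowers_le.2 (mem_centralizer_singleton_iff.2 rfl))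
    have hcT : (c : X) ∈ T := self (mem_centralizer_singleton_iff.2
      (congrArg Subtype.val (mem_centralizer_singleton_iff.1 hc)))
    obtain ⟨i, hi⟩ := mem_zpowers_iff.1 (hTM _ hcT c.2)
    exact mem_zpowers_iff.2 ⟨i, Subtype.ext (by rw [Subgroup.coe_zpow]; exact hi)⟩
  rcases SelfThree.main _ M rfl x hx hCx with ⟨N, hN, -, hcop, hq⟩ | ⟨N, hN, -, hexp, ⟨e⟩⟩ | he
  · haveI := hN
    have hxb : orderOf (QuotientGroup.mk' N x) = 3 := by
      refine orderOf_eq_prime (by rw [← map_pow, ← hx, pow_orderOf_eq_one, map_one]) fun e1 => ?_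
      have := Subgroup.orderOf_dvd_natCard N ((QuotientGroup.eq_one_iff x).1 e1)
      rw [hx] at this
      exact Nat.prime_three.not_dvd_one (hcop.symm.dvd_of_dvd_mul_right (by simpa using this) : 3 ∣ 1)
    obtain ⟨huniq, hmax⟩ := tri_quotient hq hxb
    have hOn : (N.map M.subtype).Normal := map_normal M N hcop fun L hL hLc z hz =>
      (QuotientGroup.eq_one_iff z).1 (Subgroup.mem_bot.1 (hmax (L.map (QuotientGroup.mk' N))
        (hL.map _ (QuotientGroup.mk'_surjective N)) (hLc.coprime_dvd_left (L.card_map_dvd _)) ▸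
          Subgroup.mem_map_of_mem (QuotientGroup.mk' N) hz))
    have hOc : ¬ 3 ∣ Nat.card (N.map M.subtype) := fun hd => by
      rw [Subgroup.card_map_of_injective M.subtype_injective] at hd
      exact Nat.prime_three.not_dvd_one (hcop.symm.dvd_of_dvd_mul_right (by simpa using hd) : 3 ∣ 1)
    refine ⟨N.map M.subtype, hOn, by rwa [Subgroup.card_map_of_injective M.subtype_injective], fun g => ?_⟩
    have hy : g * h0 * g⁻¹ ∈ M := (inferInstance : M.Normal).conj_mem h0 m0M g
    have hy3 : (⟨_, hy⟩ : M) ^ 3 = 1 := Subtype.ext (by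
      show (g * h0 * g⁻¹) ^ 3 = 1
      rw [conj_pow, hT.exp h0 m0]; group)
    obtain ⟨i, hi⟩ := mem_zpowers_iff.1 (huniq (QuotientGroup.mk' N ⟨_, hy⟩) (by rw [← map_pow, hy3, map_one]))
    have hmem : g * h0 * g⁻¹ * (h0 ^ i)⁻¹ ∈ N.map M.subtype := by
      refine ⟨⟨_, hy⟩ * (x ^ i)⁻¹, (QuotientGroup.eq_one_iff _).1 ?_, ?_⟩
      · show QuotientGroup.mk' N (⟨_, hy⟩ * (x ^ i)⁻¹) = 1
        rw [map_mul, map_inv, map_zpow, hi, mul_inv_cancel]
      · simp [hxdef]
    obtain ⟨n, hn, hne⟩ := GridBlock.exists_conj_of_mul hOc (fun z hz => hOn.conj_mem z hz (h0 ^ i))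
      (hT.exp _ (zpow_mem m0 i)) hmem
      (by rw [inv_mul_cancel_right, conj_pow, hT.exp h0 m0]; group)
    rw [inv_mul_cancel_right] at hne
    refine ⟨n, hn, n⁻¹ * g, ?_, by group⟩
    have hk : (n⁻¹ * g) * h0 * (n⁻¹ * g)⁻¹ = h0 ^ i := by
      rw [show n⁻¹ * g * h0 * (n⁻¹ * g)⁻¹ = n⁻¹ * (g * h0 * g⁻¹) * n by group, ← hne]; group
    refine mem_normalizer_fintype fun z hz => self (mem_centralizer_singleton_iff.2 ?_)
    set k := n⁻¹ * g
    have hzc : Commute (k * z * k⁻¹) (h0 ^ i) := by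
      rw [← hk]
      exact Commute.map (show Commute z h0 from hT.comm z hz h0 m0) (MulAut.conj k).toMonoidHom
    have hne1 : h0 ^ i ≠ 1 := fun e0 => h0ne (by rw [e0, conj_eq_one_iff] at hk; exact hk)
    have heq : zpowers (h0 ^ i) = zpowers h0 := Subgroup.eq_of_le_of_card_ge (zpowers_le.2 (zpow_mem (mem_zpowers h0) i))
      (by rw [Nat.card_zpowers, Nat.card_zpowers, hT.order m0 h0ne, hT.order (zpow_mem m0 i) hne1])
    obtain ⟨j, hj⟩ := mem_zpowers_iff.1 (heq.symm ▸ mem_zpowers h0 : h0 ∈ zpowers (h0 ^ i))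
    have h9 := hzc.zpow_right j
    rwa [hj] at h9
  · exfalso
    haveI := hN
    haveI : Fact (Nat.Prime 5) := ⟨Nat.prime_five⟩
    have hcop : (Nat.card N).Coprime 3 := by
      refine ((Nat.prime_three.coprime_iff_not_dvd).2 fun hd => ?_).symm
      obtain ⟨z, hz⟩ := exists_prime_orderOf_dvd_card' (G := N) 3 hd
      have h2 : orderOf z ∣ 2 := orderOf_dvd_of_pow_eq_one (Subtype.ext (hexp z z.2))
      rw [hz] at h2
      norm_num at h2
    haveI : IsSimpleGroup (alternatingGroup (Fin 5)) := alternatingGroup.isSimpleGroup_five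
    haveI : Nontrivial (M ⧸ N) := e.toEquiv.nontrivial
    haveI hs : IsSimpleGroup (M ⧸ N) :=
      IsSimpleGroup.isSimpleGroup_of_surjective e.symm.toMonoidHom e.symm.surjective
    have hc : Nat.card (M ⧸ N) = 60 := by
      rw [Nat.card_congr e.toEquiv, nat_card_alternatingGroup, Nat.card_fin]; decide
    have hOn : (N.map M.subtype).Normal := map_normal M N hcop fun L hL hLc z hz => by
      rcases (hL.map _ (QuotientGroup.mk'_surjective N)).eq_bot_or_eq_top with e0 | e0
      · exact (QuotientGroup.eq_one_iff z).1 (Subgroup.mem_bot.1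
          (e0 ▸ Subgroup.mem_map_of_mem (QuotientGroup.mk' N) hz))
      · exfalso
        have h1 := L.card_map_dvd (QuotientGroup.mk' N)
        rw [e0, Subgroup.card_top, hc] at h1
        exact Nat.prime_three.not_dvd_one (hLc.symm.dvd_of_dvd_mul_right
          (by simpa using (show 3 ∣ 60 by norm_num).trans h1) : 3 ∣ 1)
    exact no_simple hT m0 h0ne M hM3 m0M hTM N hcop hOn hs (p := 5) (k := 10) (by norm_num)
      (by rw [hc]; norm_num) (by rw [hc]; norm_num) (by rw [hc]; norm_num) (by rw [hc]; decide +kernel)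
      (by rw [hc]) (by rw [hc]; norm_num) (by norm_num) cores
  · exfalso
    obtain ⟨e⟩ := he
    haveI : Fact (Nat.Prime 7) := ⟨by norm_num⟩
    haveI := SelfThree.psl7_simple
    let e' : M ⧸ (⊥ : Subgroup M) ≃* Matrix.ProjectiveSpecialLinearGroup (Fin 2) (ZMod 7) :=
      QuotientGroup.quotientBot.trans e
    haveI : Nontrivial (M ⧸ (⊥ : Subgroup M)) := e'.toEquiv.nontrivial
    haveI hs : IsSimpleGroup (M ⧸ (⊥ : Subgroup M)) :=
      IsSimpleGroup.isSimpleGroup_of_surjective e'.symm.toMonoidHom e'.symm.surjective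
    have hc : Nat.card (M ⧸ (⊥ : Subgroup M)) = 168 := by rw [Nat.card_congr e'.toEquiv, card_psl_seven]
    exact no_simple hT m0 h0ne M hM3 m0M hTM ⊥ (by rw [Subgroup.card_bot]; exact Nat.coprime_one_left 3)
      (by rw [Subgroup.map_bot]; infer_instance) hs (p := 7) (k := 21) (by norm_num)
      (by rw [hc]; norm_num) (by rw [hc]; norm_num) (by rw [hc]; norm_num) (by rw [hc]; decide +kernel)
      (by rw [hc]) (by rw [hc]; norm_num) (by norm_num) cores

end

end Cfsg.Agent.U62Three.Rank2
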